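import Mathlib
import Cfsg.Agent.Lib.R1.Hyp3
import Cfsg.Agent.Lib.GW.Main

/-!
# Walter's theorem from its cases, and doubly transitive actions
-/

set_option autoImplicit false

namespace Cfsg.Agent.WF

open Subgroup MulAction R1
open scoped MatrixGroups LinearAlgebra.Projectivization

universe u

theorem walter (w0 : W0.{u}) (sew : SEW.{u}) (w3 : W3.{u}) (w4 : W4.{u}) : Walter.{u} := by
  intro G _ _ h1 h2 h3
  induction hn : Nat.card G using Nat.strong_induction_on generalizing G with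
  | _ n ih =>
  have hK : KHyp.{u} (Nat.card G) := fun X _ _ e k1 k2 k3 => ih _ (hn ▸ e) X k1 k2 k3 rfl
  by_cases h8 : ∀ A : Subgroup G, IsElementaryAbelian 2 A → Nat.card A < 8
  · exact .inr (.inl (gw4 G h1 h2 (w0 G h1 h2 h3 h8)))
  push Not at h8
  obtain ⟨A, hA, hA8⟩ := h8
  by_cases hM : ∃ M : Subgroup G, ZL.SE M
  · obtain ⟨M, hM⟩ := hM
    exact .inl (sew G M A h1 h2 h3 hK hA hA8 hM)
  have hB : ∀ B : Subgroup G, IsElementaryAbelian 2 B → Nat.card B ≤ 8 := fun B hB => by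
    by_contra! h
    obtain ⟨k, hk⟩ := IsPGroup.iff_card.1 (Core.isPGroup_of_isElementaryAbelian hB)
    refine hM (w4 G B h1 h2 h3 hK hB ?_)
    rw [hk] at h ⊢
    exact Nat.pow_le_pow_right (n := 2) two_pos
      (show 4 ≤ k from (Nat.pow_lt_pow_iff_right one_lt_two (n := 3)).1 h)
  exact .inr (.inr (w3 G A h1 h2 h3 hK hA ((hB A hA).antisymm hA8) hB (not_exists.1 hM)))

variable {G : Type u} [Group G] [Finite G]

theorem ab2_of_sylow (P : Sylow 2 G) (hP : IsMulCommutative (P : Subgroup G)) : Ab2 G := fun Q hQ => by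
  obtain ⟨R, hR⟩ := hQ.exists_le_sylow
  exact Core.isMulCommutative_of_le ⟨⟨fun a b => (R.equiv P).injective (by
    rw [map_mul, map_mul, hP.1.1])⟩⟩ hR

theorem exists_two_trans [IsSimpleGroup G] (Ω : Type*) [Finite Ω] [MulAction G Ω]
    (h : IsMultiplyPretransitive G Ω 2) (h2 : 2 ≤ Nat.card Ω) :
    ∃ (Ω : Type) (_ : Fintype Ω) (_ : MulAction G Ω) (_ : FaithfulSMul G Ω),
      IsMultiplyPretransitive G Ω 2 := by
  let e := Finite.equivFin Ω
  let ρ : G →* Equiv.Perm (Fin (Nat.card Ω)) := e.permCongrHom.toMonoidHom.comp (toPermHom G Ω)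
  letI := MulAction.compHom (Fin (Nat.card Ω)) ρ
  have hs : ∀ (g : G) (x : Ω), g • e x = e (g • x) := fun g x => by
    show e (g • e.symm (e x)) = _
    rw [e.symm_apply_apply]
  rw [is_two_pretransitive_iff] at h
  refine ⟨Fin (Nat.card Ω), inferInstance, inferInstance, faithfulSMul_iff.2 fun g hg => ?_,
    is_two_pretransitive_iff.2 fun {a b c d} h1 h3 => ?_⟩
  · rcases ρ.normal_ker.eq_bot_or_eq_top with e1 | e1
    · exact mem_bot.1 (e1 ▸ Equiv.ext hg)
    · obtain ⟨a, b, hab⟩ := (Finite.one_lt_card_iff_nontrivial.1 h2).exists_pair_ne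
      obtain ⟨k, hk, -⟩ := h hab hab.symm
      have h4 : k • e a = e a := DFunLike.congr_fun (show k ∈ ρ.ker from e1 ▸ mem_top k) (e a)
      rw [hs, hk] at h4
      exact absurd (e.injective h4) hab.symm
  · obtain ⟨g, e1, e2⟩ := h (e.symm.injective.ne h1) (e.symm.injective.ne h3)
    exact ⟨g, by rw [← e.apply_symm_apply a, hs, e1, e.apply_symm_apply],
      by rw [← e.apply_symm_apply b, hs, e2, e.apply_symm_apply]⟩

theorem two_trans_of_psl [IsSimpleGroup G] {F : Type*} [Field F] [Finite F] (e : G ≃* PSL(2, F)) :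
    ∃ (Ω : Type) (_ : Fintype Ω) (_ : MulAction G Ω) (_ : FaithfulSMul G Ω),
      IsMultiplyPretransitive G Ω 2 := by
  letI := MulAction.compHom (ℙ F (Fin 2 → F)) e.toMonoidHom
  refine exists_two_trans (ℙ F (Fin 2 → F)) (is_two_pretransitive_iff.2 fun {a b c d} h1 h2 => ?_) ?_
  · obtain ⟨g, e1, e2⟩ := is_two_pretransitive_iff.1
      (inferInstance : IsMultiplyPretransitive SL(2, F) (ℙ F (Fin 2 → F)) 2) h1 h2
    refine ⟨e.symm g, ?_, ?_⟩
    · show e (e.symm g) • a = c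
      rwa [e.apply_symm_apply]
    · show e (e.symm g) • b = d
      rwa [e.apply_symm_apply]
  · rw [Projectivization.card_of_finrank_two F _ (by simp)]
    exact Nat.succ_le_succ Nat.card_pos

theorem card_eq_of_not_two_trans (w : Walter.{u}) (jr : JR.{u}) [IsSimpleGroup G]
    (hG : ¬ IsMulCommutative G) (P : Sylow 2 G) (hP : IsMulCommutative (P : Subgroup G))
    (hno : ∀ (Ω : Type) [Fintype Ω] [MulAction G Ω] [FaithfulSMul G Ω],
      ¬ IsMultiplyPretransitive G Ω 2) : Nat.card G = 175560 := by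
  by_contra hc
  suffices h : ∃ (Ω : Type) (_ : Fintype Ω) (_ : MulAction G Ω) (_ : FaithfulSMul G Ω),
      IsMultiplyPretransitive G Ω 2 by
    obtain ⟨Ω, _, _, _, h⟩ := h
    exact hno Ω h
  rcases w G ‹_› hG (ab2_of_sylow P hP) with ⟨n, -, ⟨e⟩⟩ | ⟨F, _, _, -, -, ⟨e⟩⟩ | ⟨t, H, L, F, _, _, h⟩
  · exact two_trans_of_psl e
  · exact two_trans_of_psl e
  · obtain ⟨k, -, -, h1, h2⟩ := (jr G t H L F h).resolve_left fun e => hc e.2
    exact exists_two_trans _ h2 (h1 ▸ Nat.succ_le_succ (Nat.pow_pos Fintype.card_pos))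

end Cfsg.Agent.WF
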