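import Cfsg.Agent.Lib.WF.DG
import Cfsg.Agent.Lib.E8.Half
import Cfsg.Agent.Lib.JO.Local

/-!
# Groups whose `p`-subgroups of equal order are conjugate
-/

set_option autoImplicit false
set_option linter.unusedSectionVars false

namespace Cfsg.Agent.WF

open Subgroup Cfsg.Agent.Coprime Cfsg.Agent.OO Cfsg.Agent.PGrp R1
open scoped Pointwise MatrixGroups

universe u

variable {G : Type u} [Group G] [Finite G] {M : Subgroup G}

/-- the groups of the list with Sylow 2-subgroups of order 4 -/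
def Q4 (G : Type*) [Group G] : Prop := ∃ (p : ℕ) (_ : Fact p.Prime), (p % 8 = 3 ∨ p % 8 = 5) ∧
  (Nonempty (G ≃* PSL(2, ZMod p)) ∨ Nonempty (G ≃* PSL(2, GaloisField p 3)))

theorem pow_mod_eight {p f : ℕ} (h : p ^ f % 8 = 3 ∨ p ^ f % 8 = 5) :
    (p % 8 = 3 ∨ p % 8 = 5) ∧ f % 2 = 1 := by
  have h1 : p % 2 = 1 := Nat.odd_iff.1 ((Nat.odd_pow_iff (by rintro rfl; simp at h)).1
    (Nat.odd_iff.2 (by omega) : Odd (p ^ f)))
  have h2 : (p ^ 2) ^ (f / 2) % 8 = 1 := by
    rcases (by omega : p % 8 = 1 ∨ p % 8 = 3 ∨ p % 8 = 5 ∨ p % 8 = 7) with e | e | e | e <;>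
      simp [Nat.pow_mod, e]
  rw [← Nat.div_add_mod f 2, pow_add, pow_mul, Nat.mul_mod, h2] at h
  rcases Nat.mod_two_eq_zero_or_one f with e | e <;> simp [e] at h ⊢
  exact h

namespace DG

variable [M.Normal] (h : DG M) (hC : 𝐂(M) = ⊥)
include h

theorem equiv (hd : M.index ∣ ♯M) : Nonempty (G ≃* M) :=
  ⟨(topEquiv.symm.trans (MulEquiv.subgroupCongr (index_eq_one.1 (h.coprime.symm.eq_one_of_dvd hd)).symm))⟩

include hC

omit h in
theorem inj : Function.Injective (MulAut.conjNormal : G →* MulAut M) :=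
  (injective_iff_map_eq_one _).2 fun _ e => mem_bot.1 (hC ▸ mem_cent_iff_conj.2 fun x hx =>
    congrArg Subtype.val (DFunLike.congr_fun e (⟨x, hx⟩ : M)))

theorem even' {n : ℕ} (hn : 3 ≤ n + 1) (e : M ≃* PSL(2, GaloisField 2 (n + 1))) :
    Nonempty (G ≃* PSL(2, GaloisField 2 3)) ∨ Nonempty (G ≃* MulAut PSL(2, GaloisField 2 5)) := by
  obtain ⟨S⟩ : Nonempty (Sylow 2 G) := inferInstance
  obtain ⟨h1, h2, h3, h4, h5, h6⟩ := h.even hn e S
  have h7 := (borel h.smp h.hn (h.le h.two) hC h1 S h3 (Nat.le_self_pow n.succ_ne_zero 2) h2).2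
  rw [one_mul] at h7 h2
  rw [← h7] at h5 h6
  rcases h4 with rfl | rfl
  · obtain ⟨i⟩ := h.equiv ((Nat.dvd_of_mul_dvd_mul_right (by norm_num) h5).trans (h2 ▸ by norm_num))
    exact .inl ⟨i.trans e⟩
  have := h.hs
  have hA := BSW.ca2_SL2.of_injective (e.trans BSW.pslEquiv).toMonoidHom (e.trans BSW.pslEquiv).injective
  obtain ⟨W⟩ : Nonempty (Sylow 2 M) := inferInstance
  have sq : ∀ s ∈ (W : Subgroup M), s * s = 1 := fun s hs => by_contra fun e =>
    e (SE.ca_syl hA W hs (by rintro rfl; simp at e)).2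
  obtain ⟨u, hu⟩ := Wal.hypC_of_cc h.hn (syl_top W) (BSW.comm_of_mul_self sq)
    fun w hw w1 => (SE.ca_syl hA W hw w1).1.le
  have : Finite (MulAut M) := Finite.of_injective _ DFunLike.coe_injective
  refine .inr ⟨(MulEquiv.ofBijective _ ((Nat.bijective_iff_injective_and_card _).2 ⟨inj hC, le_antisymm
    (Nat.card_le_card_of_injective _ (inj hC)) ((E8.card_mulAut_le hu (syl_top W) sq (card_syl
      (d := 1) (f := 5) (syl_top W) (by norm_num) (by norm_num) (by rw [card_top, one_mul, h2]))).trans ?_)⟩)).trans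
    (MulAut.congr e)⟩
  rw [← M.index_mul_card]
  have : 31 * 15 ≤ M.index * 31 * 3 := Nat.le_of_dvd (by have := M.index_ne_zero_of_finite; positivity) h6
  exact Nat.mul_le_mul_right _ (by omega)

theorem odd {F : Type} [Field F] [Fintype F] (hm : Fintype.card F % 8 = 3 ∨ Fintype.card F % 8 = 5)
    (e : M ≃* PSL(2, F)) : Q4 G := by
  obtain ⟨p, _⟩ := CharP.exists F
  obtain ⟨⟨f, f0⟩, hp, hf : _ = p ^ f⟩ := FiniteField.card F p
  have := Fact.mk hp
  have h1 := CA.of_equiv e (ca_odd (SE.two_ne_zero_of_mod hm))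
  have h2 := CIT.card_PSL2 (SE.two_ne_zero_of_mod hm)
  have h8 := SE.not_eight_dvd hm
  rw [← Nat.card_congr e.toEquiv] at h2 h8
  rw [hf] at h2 hm
  obtain ⟨m1, m2⟩ := pow_mod_eight hm
  have p2 : ¬ p ∣ 2 := fun e => by have := Nat.le_of_dvd two_pos e; omega
  have hd : p ∣ ♯M := (hp.dvd_mul.1 (h2 ▸ (dvd_pow_self p f0.ne').mul_right _)).resolve_left p2
  obtain ⟨P⟩ : Nonempty (Sylow p G) := inferInstance
  have h3 := card_syl (h.syl hd P) p2 f0.ne' h2
  obtain ⟨h4, h5⟩ := borel h.smp h.hn (h.le hd) hC h1 P h3 (by omega) h2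
  have key : ∀ k, k ∣ ♯M → 𝐂((P : Subgroup G)).relIndex 𝐍((P : Subgroup G)) ∣ k * (p ^ f - 1) →
      ∀ (E : Type) [Field E], Nat.card E = p ^ f → Nonempty (G ≃* PSL(2, E)) := fun k h6 h7 E _ h9 => by
    have : Finite E := Nat.finite_of_card_ne_zero (by omega)
    have := Fintype.ofFinite E
    obtain ⟨i⟩ := h.equiv (((Nat.prime_two.coprime_iff_not_dvd.2 (h.not_dvd h.two)).symm.dvd_of_dvd_mul_left
      (Nat.dvd_of_mul_dvd_mul_right (by omega) (h5 ▸ mul_assoc 2 k _ ▸ mul_dvd_mul_left 2 h7))).trans h6)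
    obtain ⟨j⟩ := MN.psl_congr (FiniteField.ringEquivOfCardEq (hf.trans
      (h9.symm.trans Nat.card_eq_fintype_card)))
    exact ⟨i.trans (e.trans j)⟩
  refine ⟨p, this, m1, ?_⟩
  obtain ⟨n, rfl⟩ : ∃ k, f = k + 1 := ⟨f - 1, by omega⟩
  rcases n.eq_zero_or_pos with rfl | hn
  · rw [zero_add, pow_one] at *
    have h6 := CIT.relIndex_cent_dvd (isCyclic_of_prime_card h3)
    rw [h3, Nat.totient_prime hp] at h6
    exact .inl (key 1 (one_dvd _) (by rwa [one_mul]) _ (Nat.card_zmod p))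
  obtain ⟨k1, k2, -⟩ := core (syl_top P) (h1.abelem P.2 (h.le hd P)) h3 (by omega)
    (E8.sol_of_not_four fun e => h8 ((Nat.Coprime.pow_left 3 (Nat.prime_two.coprime_iff_not_dvd.2
      (h.not_dvd h.two))).dvd_of_dvd_mul_right (by
        rw [M.card_mul_index, ← 𝐍((P : Subgroup G)).card_mul_index, h4]
        exact mul_dvd_mul e (show 2 ∣ _ by omega)))) (h.tr p hp)
  obtain rfl : n = 2 := by omega
  refine .inr (key 3 ((show Nat.Coprime 3 2 by norm_num).dvd_of_dvd_mul_left (h2 ▸ ?_)) k2 _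
    (GaloisField.card p 3 (by norm_num)))
  generalize p ^ (2 + 1) = q
  rcases (by omega : 3 ∣ q ∨ 3 ∣ q - 1 ∨ 3 ∣ q + 1) with e | e | e
  exacts [e.mul_right _, (e.mul_right _).mul_left _, (e.mul_left _).mul_left _]

theorem j1 (hM : ♯M = 175560) {t : M} {H L : Subgroup M} {F : Type} [Field F] [Fintype F]
    (e : JRs t H L F) (h5 : Fintype.card F = 5) : IsJ1 G := by
  have := h.hs
  have h1 : M ⊔ 𝐂[(t : G)] = ⊤ := eq_top_iff.2 fun g _ => by
    obtain ⟨c, hc⟩ := isConj_iff.1 (e.conj (MulAut.conjNormal g t) (by simpa using e.t1)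
      (by rw [← map_mul, e.t2, map_one]))
    rw [← mul_mem_cancel_left (mem_sup_left c.2)]
    exact mem_sup_right (mem_cent1_iff_conj.2 (by simpa [mul_assoc] using congrArg Subtype.val hc))
  obtain ⟨i⟩ := h.equiv (by_contra fun e1 => by
    obtain ⟨r, hr, hd⟩ := Nat.exists_prime_and_dvd (n := M.index) fun e => e1 (e ▸ one_dvd _)
    have := Fact.mk hr
    have h2 : ¬ r ∣ 175560 := fun e => h.not_dvd (hM ▸ e) hd
    rw [← relIndex_top_right, ← h1, relIndex_sup_left] at hd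
    obtain ⟨x, hx, ho⟩ := cauchy hr (hd.trans (relIndex_dvd_card _ _))
    obtain ⟨W, hW⟩ := exists_syl 2 (⊤ : Subgroup M)
    have := inj hC ((SE.j1_aut e h5 hM ⟨JO.ab_of_two hM hW.isPGroup, fun s hs => (pow_two s).trans
      (JO.sq_of_two hM hW.isPGroup s hs)⟩ (JO.card_syl hM hW).ge (α := MulAut.conjNormal x) hr (by_contra fun h7 => by
      have := hr.two_le
      interval_cases r <;> simp_all (config := { decide := true }))
      (by rw [← map_pow, ← ho, pow_orderOf_eq_one, map_one])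
      (Subtype.ext (mem_cent1_iff_conj.1 hx))).trans (map_one _).symm)
    rw [this, orderOf_one] at ho
    exact hr.one_lt.ne ho)
  exact ⟨i.isSimpleGroup, (Nat.card_congr i.toEquiv).trans hM⟩

end DG

theorem rank2 (w : Walter.{u}) (jr : JR.{u}) (tr : ∀ p : ℕ, p.Prime → ConjAbP p G)
    (hO : pPrimeCore 2 G = ⊥) (hr : ¬ PRankLE 2 1 G) : Q4 G ∨ 8 ∣ Nat.card G ∧
    (Nonempty (G ≃* affineGroup (GaloisField 2 3)) ∨ Nonempty (G ≃* semiaffineGroup (GaloisField 2 3)) ∨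
    Nonempty (G ≃* semiaffineGroup (GaloisField 2 5)) ∨ IsJ1 G ∨
    Nonempty (G ≃* PSL(2, GaloisField 2 3)) ∨ Nonempty (G ≃* MulAut PSL(2, GaloisField 2 5))) := by
  have hO' : ∀ N : Subgroup G, N.Normal → ¬ 2 ∣ ♯N → N = ⊥ := fun N _ e =>
    le_bot_iff.1 (hO ▸ Core.le_pPrimeCore_of_not_dvd e)
  have t2 := tr 2 Nat.prime_two
  have hc : ∀ s t : G, s ≠ 1 → s * s = 1 → t ≠ 1 → t * t = 1 → ∃ g, g * s * g⁻¹ = t :=
    fun s t s1 s2 t1 t2' => (t2 (zpowers s) (zpowers t) (SE.isPGroup_zp s2) inferInstance inferInstance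
      ((E8.card_zpowers_two s1 s2).trans (E8.card_zpowers_two t1 t2').symm)).imp fun g hg =>
      E8.eq_of_mem_zpowers t2' (hg.ge (conj_mem_conj (mem_zpowers s))) (BSW.conj_ne_one s1)
  rcases SE.sol_or_simple (ab2_of_rank t2 hr) (fun N hN e => hO' N hN e.not_two_dvd_nat) hc with
    _ | ⟨L, _, h1, h2, h3⟩
  · have hC := Core.centralizer_pCore_le hO
    have hS := Core.isPGroup_pCore (G := G) 2
    generalize hs : pCore 2 G = S at hC hS
    have : S.Normal := hs ▸ inferInstance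
    have hle : ∀ A : Subgroup G, IsPGroup 2 A → A ≤ S := fun A => t2.le_of_normal hr
      (dvd_card_of_isPGroup hS (by
        rintro rfl
        exact hr fun A _ _ => (card_le (le_top.trans (cent_bot.ge.trans hC))).trans (by simp)))
    have h1 : Syl 2 S ⊤ := syl_of_max le_top hS fun U e _ e' => (hle U e').antisymm e
    have h2 : IsElementaryAbelian 2 S := ⟨ab2_of_rank t2 hr S hS, fun _ => t2.pow_eq_one hr hS⟩
    obtain ⟨n, hn⟩ := IsPGroup.iff_card.1 hS
    have h3 : 2 ≤ n := by_contra fun e => hr fun A e1 e2 => (card_le (hle A (abelem_isPGroup ⟨e1, e2⟩))).trans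
      (hn ▸ Nat.pow_le_pow_right two_pos (by omega))
    rcases h3.eq_or_lt with rfl | h3
    · rcases E8.four_normal hO' hn (fun a ha a1 b hb b1 => hc a b a1 ((pow_two a).symm.trans (h2.2 a ha))
        b1 ((pow_two b).symm.trans (h2.2 b hb))) hC with ⟨⟨e⟩⟩ | ⟨⟨e⟩⟩
      · obtain ⟨g, g1, g2⟩ := E8.exists_hom_SL3
        exact .inl ⟨3, inferInstance, .inl rfl, .inl ⟨e.trans ((QuotientGroup.quotientKerEquivOfSurjective
          g g1).symm.trans (QuotientGroup.quotientMulEquivOfEq g2))⟩⟩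
      · have h4 := S.card_mul_index.trans (Nat.card_congr e.toEquiv)
        have h5 := relIndex_top_right S ▸ h1.not_dvd
        rw [hn, Nat.card_perm, Nat.card_fin, show Nat.factorial 4 = 24 from rfl] at h4
        omega
    refine .inr ⟨(hn ▸ pow_dvd_pow 2 h3).trans (card_subgroup_dvd_card S), ?_⟩
    rcases normal_case h1 h2 hn h3 hC t2 with ⟨-, -, e⟩ | ⟨-, -, e⟩
    · rcases e rfl with e | e <;> simp only [e, true_or, or_true]
    · simp only [e, true_or, or_true]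
  have h : DG L := ⟨tr, h1, h2⟩
  have hC : 𝐂(L) = ⊥ := hO' _ inferInstance fun e => by
    obtain ⟨t, ht, t1, t2⟩ := SE.exists_inv e
    rcases h.smp _ (Zc_normal L) with e | e
    · exact t1 (mem_bot.1 (e ▸ ⟨h3 t t2, ht⟩))
    · exact h2 (e ▸ Zc_ab L)
  rcases h.cases w jr with ⟨h8, n, hn, ⟨e⟩⟩ | ⟨F, _, _, -, hm, ⟨e⟩⟩ | ⟨hM, t, H, K, F, _, _, e, h5⟩
  · refine .inr ⟨h8.trans (card_subgroup_dvd_card L), ?_⟩
    rcases h.even' hC hn e with e | e <;> simp only [e, true_or, or_true]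
  · exact .inl (h.odd hC hm e)
  · refine .inr ⟨Dvd.dvd.trans (hM ▸ by norm_num) (card_subgroup_dvd_card L), ?_⟩
    simp only [h.j1 hC hM e h5, true_or, or_true]

theorem cover {z : G} (z1 : z ≠ 1) (z2 : z * z = 1) [(zpowers z).Normal]
    (hz : ∀ u, u * u = 1 → u ∈ zpowers z) (h4 : ∀ q : G ⧸ zpowers z, q ^ 4 = 1 → q ^ 2 = 1)
    {F : Type} [Field F] [Finite F] {p : ℕ} [CharP F p] (hp : p % 8 = 3 ∨ p % 8 = 5)
    (e : G ⧸ zpowers z ≃* PSL(2, F)) : Nonempty (G ≃* SL(2, F)) := by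
  have := Fintype.ofFinite F
  have h2 : (2 : F) ≠ 0 := fun e => by
    have := Nat.le_of_dvd two_pos ((CharP.cast_eq_zero_iff F p 2).1 e); omega
  have h : (-1 : SL(2, F)) ≠ 1 := fun e => h2 (by
    have := congrArg (fun x : SL(2, F) => x.1 0 0) e
    simp at this
    linear_combination -this)
  have h1 : ∀ x, (e.toMonoidHom.comp (QuotientGroup.mk' _)) x = 1 ↔ x ∈ zpowers z := fun x => by simp
  refine E8.cover_iso _ (QuotientGroup.mk' _) (e.surjective.comp (QuotientGroup.mk'_surjective _))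
    (QuotientGroup.mk'_surjective _) z1 h (fun x => (h1 x).trans (S4021.mem_iff z2)) (fun y => ?_)
    (fun x hx => (h1 x).2 (hz x (by rwa [← pow_two])))
    (fun y hy => (QuotientGroup.eq_one_iff _).2 (Lin.SL2.mem_center_of_sq_eq_one h2 hy)) fun q hq => ?_
  · rw [QuotientGroup.mk'_apply, QuotientGroup.eq_one_iff, ← eq_zpowers_of_prime (x := -1)
      (by rw [E8.card_center_SL2' h2]; exact Nat.prime_two) (mem_center_iff.2 fun g => by simp) h,
      S4021.mem_iff (by simp)]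
  · obtain ⟨q, rfl⟩ := e.surjective q
    rw [← map_pow, map_eq_one_iff _ e.injective] at hq ⊢
    exact h4 q hq

theorem dgroups (w : Walter.{u}) (jr : JR.{u}) (tr : ∀ p : ℕ, p.Prime → ConjP p G)
    (hO : pPrimeCore 2 G = ⊥) : (IsCyclic G ∧ IsPGroup 2 G) ∨
    Nonempty (G ≃* affineGroup (GaloisField 2 3)) ∨ Nonempty (G ≃* semiaffineGroup (GaloisField 2 3)) ∨
    Nonempty (G ≃* semiaffineGroup (GaloisField 2 5)) ∨ IsJ1 G ∨
    Nonempty (G ≃* PSL(2, GaloisField 2 3)) ∨ Nonempty (G ≃* MulAut PSL(2, GaloisField 2 5)) ∨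
    ∃ (p : ℕ) (_ : Fact p.Prime), (p % 8 = 3 ∨ p % 8 = 5) ∧
      (Nonempty (G ≃* PSL(2, ZMod p)) ∨ Nonempty (G ≃* PSL(2, GaloisField p 3)) ∨
       Nonempty (G ≃* SL(2, ZMod p)) ∨ Nonempty (G ≃* SL(2, GaloisField p 3))) := by
  obtain ⟨S, hS⟩ := exists_syl 2 (⊤ : Subgroup G)
  rcases (tr 2 Nat.prime_two).cases hS.isPGroup with hc | ⟨-, hr, h8, hn⟩ | ⟨hr, -⟩
  · have := cyclic_pdiv_normal_complement hS hc fun q hq _ => hq.two_le
    obtain rfl := this.right_eq_iff.2 (Op'_top.trans hO)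
    exact .inl ⟨isCyclic_of_surjective _ topEquiv.surjective, hS.isPGroup.of_equiv topEquiv⟩
  swap
  · rcases rank2 w jr (fun p hp => haveI := Fact.mk hp; (tr p hp).conjAbP) hO hr with
      ⟨p, _, hp, e⟩ | ⟨-, e | e | e | e | e | e⟩
    · iterate 7 right
      exact ⟨p, _, hp, e.imp_right .inl⟩
    all_goals simp only [e, true_or, or_true]
  obtain ⟨z, hz, z1, z2⟩ := SE.exists_inv (H := S) (by omega)
  obtain ⟨hc, hz'⟩ := central hr hO z1 z2
  have : (zpowers z).Normal := Core.normal_of_le_center (zpowers_le.2 hc)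
  let π := QuotientGroup.mk' (zpowers z)
  have hπ : Function.Surjective π := QuotientGroup.mk'_surjective _
  have tr' := fun p hp => haveI := Fact.mk hp; (tr p hp).of_surjective hπ
  have h1 := map_top_of_surjective π hπ ▸ hS.map π
  have h2 := Core.card_map_mk_mul (zpowers z) S
  rw [inf_eq_left.2 (zpowers_le.2 hz), E8.card_zpowers_two z1 z2, h8] at h2
  have hr' : ¬ PRankLE 2 1 (G ⧸ zpowers z) := by
    rcases (tr' 2 Nat.prime_two).cases h1.isPGroup with hc' | ⟨-, -, e, -⟩ | ⟨e, -⟩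
    · refine absurd ((π.subgroupMap S).isMulCommutative_of_isCyclic_of_ker_le_center fun x hx => ?_) hn
      exact mem_center_iff.2 fun y => Subtype.ext (mem_center_iff.1 (zpowers_le.2 hc
        ((QuotientGroup.eq_one_iff _).1 (congrArg Subtype.val hx))) y)
    · exact absurd (e ▸ h2) (by norm_num)
    · exact e
  have h4 : ∀ q : G ⧸ zpowers z, q ^ 4 = 1 → q ^ 2 = 1 := fun q hq =>
    (tr' 2 Nat.prime_two).conjAbP.pow_eq_one hr' (isP_zp (k := 2) hq) (mem_zpowers q)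
  rcases rank2 w jr (fun p hp => haveI := Fact.mk hp; (tr' p hp).conjAbP) (E8.odd_core_quot
    (fun N _ e => le_bot_iff.1 (hO ▸ Core.le_pPrimeCore_of_not_dvd e)) _ (zpowers_le.2 hc) _
    inferInstance Core.not_dvd_card_pPrimeCore) hr' with ⟨p, _, hp, e⟩ | ⟨e, -⟩
  · iterate 7 right
    exact ⟨p, _, hp, .inr (.inr (e.imp (fun ⟨e⟩ => cover z1 z2 hz' h4 hp e) fun ⟨e⟩ =>
      cover z1 z2 hz' h4 hp e))⟩
  · have h3 := relIndex_top_right (S.map π) ▸ h1.not_dvd
    rw [← (S.map π).card_mul_index, show ♯(S.map π) = 4 from Nat.eq_of_mul_eq_mul_left two_pos h2] at e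
    omega

end Cfsg.Agent.WF
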