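import Cfsg.Agent.Lib.WF.Core
import Cfsg.Agent.Lib.SE.NB2
import Cfsg.Agent.Lib.E8.HallNum
import Cfsg.Agent.Lib.MN.PSL

/-!
# Sylow subgroups that are trivial intersection sets in a simple normal subgroup
-/

set_option autoImplicit false
set_option linter.unusedSectionVars false

namespace Cfsg.Agent.WF

open Subgroup MulAction Cfsg.Agent.Coprime Cfsg.Agent.OO
open scoped Pointwise MatrixGroups

universe u

variable {G : Type u} [Group G] [Finite G] {M : Subgroup G} {p q : ℕ} [hp : Fact p.Prime]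
  {P Q : Sylow p G} {x : G}

theorem mem_of_smul (hx : x ∈ (P : Subgroup G)) (h : x • Q = Q) : x ∈ (Q : Subgroup G) :=
  (P.2.inf_normalizer_sylow Q ▸ ⟨hx, Sylow.smul_eq_iff_mem_normalizer.1 h⟩ :
    x ∈ (P : Subgroup G) ⊓ Q).2

theorem smul_self (hx : x ∈ (P : Subgroup G)) : x • P = P :=
  Sylow.smul_eq_iff_mem_normalizer.2 (le_norm_self _ hx)

theorem syl_top (P : Sylow p G) : Syl p (P : Subgroup G) ⊤ := isSylowIn_top P

theorem ncard_compl (P : Sylow p G) : ({P}ᶜ : Set (Sylow p G)).ncard + 1 = Nat.card (Sylow p G) := by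
  rw [← Set.ncard_add_ncard_compl {P}, Set.ncard_singleton, add_comm]

theorem orbit_sub (h : Q ≠ P) : {b | ∃ d ∈ (P : Subgroup G), d • Q = b} ⊆ {P}ᶜ := by
  rintro _ ⟨x, hx, rfl⟩ e
  exact h (smul_left_cancel x (Eq.trans e (smul_self hx).symm))

theorem ncard_orbit (ti : ∀ x ∈ (P : Subgroup G), x ∈ (Q : Subgroup G) → x = 1) :
    {b | ∃ d ∈ (P : Subgroup G), d • Q = b}.ncard = ♯(P : Subgroup G) := by
  have := card_inf_mul_relIndex (stabilizer G Q) P
  rwa [show stabilizer G Q ⊓ P = ⊥ from eq_bot_iff.2 fun x hx => ti x hx.2 (mem_of_smul hx.2 hx.1),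
    card_bot, one_mul, SE.relIndex_stabilizer] at this

variable [M.Normal] (hs : GW.Smp M) (hn : ¬ Ab M) (hP : ∀ Q : Sylow p G, (Q : Subgroup G) ≤ M)
include hs hP

theorem inf_ker (h : Q ≠ P) : M ⊓ (toPermHom G (Sylow p G)).ker = ⊥ :=
  (hs _ (normalIn_inf_of_norm le_normalizer_of_normal)).resolve_right fun e =>
    h (Sylow.ext (P.3 Q.2 fun _ hy => mem_of_smul hy
      (Equiv.congr_fun (MonoidHom.mem_ker.1 (e.ge (hP P hy)).2) Q)))

omit hs in
theorem relIndex_norm (P : Sylow p G) : (stabilizer G P).relIndex M = Nat.card (Sylow p G) := by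
  rw [SE.relIndex_stabilizer, ← Set.ncard_univ]
  refine congrArg _ (Set.eq_univ_of_forall fun Q => ?_)
  obtain ⟨g, hg, e⟩ := ((syl_top P).mono (hP P) le_top).exists_conj' ((syl_top Q).mono (hP Q) le_top)
  exact ⟨g, hg, Sylow.ext e.symm⟩

omit [Finite G] [M.Normal] hs hP hp in
theorem arithB {n : ℕ} (h2 : 2 ≤ q) (h : q ∣ n) (h0 : n ≠ 0) (hd : n + 1 ∣ (q - 1) * (q + 1)) : n = q := by
  obtain ⟨k, rfl⟩ := h
  obtain ⟨q, rfl⟩ := Nat.exists_eq_add_of_le' h2
  obtain ⟨m, hm⟩ := hd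
  have h1 : q + 2 ∣ m + 1 := (Nat.dvd_add_right (Dvd.intro (k * m) rfl)).1
    (Dvd.intro (q + 2) (by rw [show q + 2 - 1 = q + 1 from rfl] at hm; linarith))
  have h3 := Nat.le_of_dvd m.succ_pos h1
  rw [show q + 2 - 1 = q + 1 from rfl] at hm
  have : k ≠ 0 := by rintro rfl; simp at h0
  obtain rfl : k = 1 := by
    by_contra e
    have : 2 ≤ k := by omega
    nlinarith [Nat.mul_le_mul (Nat.add_le_add_right (Nat.mul_le_mul_left (q + 2) this) 1)
      (show q + 1 ≤ m by omega)]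
  exact mul_one _

variable (p M) in
/-- the centralizers of the `p`-elements are abelian -/
def CA : Prop := ∀ x ∈ M, x ≠ 1 → ∀ k, x ^ p ^ k = 1 → x ^ p = 1 ∧ Ab (M ⊓ 𝐂[x])

omit [M.Normal] hs hP in
theorem CA.abelem (h : CA M p) {U : Subgroup G} (hU : IsPGroup p U) (hM : U ≤ M) :
    IsElementaryAbelian p U := by
  have h1 : ∀ x ∈ U, x ≠ 1 → x ^ p = 1 ∧ Ab (M ⊓ 𝐂[x]) := fun x hx x1 =>
    (hU ⟨x, hx⟩).elim fun k hk => h x (hM hx) x1 k (congrArg Subtype.val hk)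
  refine ⟨?_, fun x hx => by_contra fun e => e (h1 x hx (by rintro rfl; simp at e)).1⟩
  rcases eq_or_ne U ⊥ with rfl | h0
  · exact ab_bot
  obtain ⟨z, hz, z1⟩ := exists_mem_ne_one (Zc_ne_bot (nil_of_isPGroup hU) h0)
  exact ab_of_le (h1 z (Zc_le _ hz) z1).2 (le_inf hM (le_cent1_iff.2 hz.2))

include hn in
theorem borel (hC : 𝐂(M) = ⊥) (h : CA M p) (P : Sylow p G) {d : ℕ} (hq : ♯(P : Subgroup G) = q)
    (h2 : 2 ≤ q) (hd : d * ♯M = q * ((q - 1) * (q + 1))) : 𝐍((P : Subgroup G)).index = q + 1 ∧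
      M.index * (q - 1) = d * 𝐂((P : Subgroup G)).relIndex 𝐍((P : Subgroup G)) := by
  have ab : ∀ Q : Sylow p G, Ab (Q : Subgroup G) := fun Q => (h.abelem Q.2 (hP Q)).1
  have ti : ∀ Q : Sylow p G, Q ≠ P → ∀ x ∈ (P : Subgroup G), x ∈ (Q : Subgroup G) → x = 1 :=
    fun Q e x hx hQ => by_contra fun x1 => e (Sylow.ext (P.3 Q.2 ((syl_top Q).le_of_norm le_top P.2
      (.inl (le_norm_of_le_cent ?_)))))
  swap
  · obtain ⟨k, hk⟩ := P.2 ⟨x, hx⟩
    have := (h x (hP P hx) x1 k (congrArg Subtype.val hk)).2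
    exact (le_inf (hP Q) ((ab Q).le_cent.trans (cent_le_cent1 hQ))).trans (this.le_cent.trans
      (cent_anti (le_inf (hP P) ((ab P).le_cent.trans (cent_le_cent1 hx)))))
  have h1 := ncard_compl P
  have h0 : ({P}ᶜ : Set (Sylow p G)).ncard ≠ 0 := fun e => by
    have := relIndex_eq_one.1 ((relIndex_norm hP P).trans (h1.symm.trans (by rw [e])))
    rcases hs P ⟨hP P, fun g hg => Sylow.smul_eq_iff_mem_normalizer.1 (this hg)⟩ with e | e
    · rw [e, card_bot] at hq; omega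
    · exact hn (e ▸ ab P)
  have h3 : ({P}ᶜ : Set (Sylow p G)).ncard = q := arithB h2 (hq ▸ SE.dvd_ncard_of_free
    (fun x hx Q hQ => orbit_sub hQ ⟨x, hx, rfl⟩) fun x hx Q hQ e => ti Q hQ x hx (mem_of_smul hx e)) h0 (by
    rw [h1, ← relIndex_norm hP P]
    refine (relIndex_dvd_of_le_left M (fun x hx => smul_self hx : (P : Subgroup G) ≤ _)).trans
      (Nat.dvd_of_mul_dvd_mul_left (show 0 < q by omega) ?_)
    rw [← hd, ← hq, card_mul_relIndex (hP P)]
    exact dvd_mul_left _ _)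
  have h4 : 𝐂((P : Subgroup G)) = P := le_antisymm (fun c hc => by
    obtain ⟨Q, hQ⟩ := Set.nonempty_of_ncard_ne_zero h0
    have tr := Set.eq_of_subset_of_ncard_le (orbit_sub hQ) (by rw [ncard_orbit (ti Q hQ), hq, h3])
    have cP : c • P = P := Sylow.smul_eq_iff_mem_normalizer.2 (cent_le_norm _ hc)
    obtain ⟨u, hu, e⟩ := tr.ge (show c • Q ∈ _ from fun e => hQ (smul_left_cancel c (Eq.trans e cP.symm)))
    have k : ∀ R : Sylow p G, (u⁻¹ * c) • R = R := fun R => by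
      by_cases e1 : R = P
      · rw [e1, mul_smul, cP, smul_self (inv_mem hu)]
      · obtain ⟨v, hv, rfl⟩ := tr.ge e1
        rw [← mul_smul, ← mem_cent_iff.1 (mul_mem (inv_mem ((ab P).le_cent hu)) hc) v hv, mul_smul,
          mul_smul, ← e, inv_smul_smul]
    have := le_cent_of_inf_eq_bot le_normalizer_of_normal le_normalizer_of_normal
      ((inf_comm _ _).trans (inf_ker hs hP hQ)) (Equiv.ext k)
    rw [hC, mem_bot, inv_mul_eq_one] at this
    exact this ▸ hu) (ab P).le_cent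
  rw [h3, P.card_eq_index_normalizer] at h1
  refine ⟨h1.symm, Nat.eq_of_mul_eq_mul_left (show 0 < q * (q + 1) by positivity) ?_⟩
  have h5 := congrArg (d * ·) (𝐍((P : Subgroup G)).card_mul_index.trans M.card_mul_index.symm)
  rw [← card_mul_relIndex (le_norm_self (P : Subgroup G)), hq, P.coe_coe] at h5
  simp only [← mul_assoc d ♯M, hd, ← h1] at h5
  rw [h4, P.coe_coe]; linarith

theorem ree (tr : PGrp.ConjAbP p G) (hr : ¬ PRankLE p 1 G) {m : ℕ} (hm : 5 ≤ m)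
    (hΩ : Nat.card (Sylow p M) = p ^ (m + 1) + 1) (h2 : IsMultiplyPretransitive M (Sylow p M) 2)
    (h4 : 4 ∣ p ^ (m + 1) + 1) (h16 : ¬ 16 ∣ Nat.card G) : False := by
  rw [← Nat.card_eq_of_bijective (fun Q : Sylow p G => Q.subtype (hP Q)) ⟨fun _ _ => Sylow.subtype_injective,
    fun R => R.exists_comap_subtype_eq.imp fun _ => Sylow.ext⟩] at hΩ
  obtain ⟨P⟩ : Nonempty (Sylow p G) := inferInstance
  have h1 := Nat.add_right_cancel ((ncard_compl P).trans hΩ)
  obtain ⟨Q, hQ⟩ := Set.nonempty_of_ncard_ne_zero (h1 ▸ pow_ne_zero _ hp.out.ne_zero)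
  have tr1 : ∀ Q, Q ≠ P → {b | ∃ d ∈ (P : Subgroup G), d • Q = b} = {P}ᶜ := fun Q hQ => by
    have h3 : {b | ∃ d ∈ stabilizer G P, d • Q = b} = {P}ᶜ := Set.Subset.antisymm (by
      rintro _ ⟨x, hx, rfl⟩ e
      exact hQ (smul_left_cancel x (Eq.trans e (Eq.symm hx)))) fun R hR => by
      obtain ⟨g, e1, e2⟩ := is_two_pretransitive_iff.1 h2 (mt (Sylow.subtype_injective (hP := hP P)
        (hQ := hP Q)) hQ.symm) (mt (Sylow.subtype_injective (hP := hP P) (hQ := hP R)) (Ne.symm hR))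
      rw [Sylow.smul_subtype] at e1 e2
      exact ⟨g, Sylow.subtype_injective e1, Sylow.subtype_injective e2⟩
    have h5 : (P : Subgroup G) ≤ stabilizer G P := fun _ => smul_self
    have pr : IsProd (P : Subgroup G) (stabilizer G Q ⊓ stabilizer G P) (stabilizer G P) :=
      .of_coprime_relIndex h5 inf_le_right (by
        rw [inf_relIndex_right, SE.relIndex_stabilizer, h3, h1]
        exact (hp.out.coprime_iff_not_dvd.2 ((syl_top P).mono h5 le_top).not_dvd).symm.pow_right _)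
    refine (orbit_sub hQ).antisymm fun R hR => ?_
    obtain ⟨g, hg, rfl⟩ := h3.ge hR
    obtain ⟨a, ha, c, hc, rfl⟩ := pr.mem_iff.1 hg
    exact ⟨a, ha, by rw [mul_smul, show c • Q = Q from hc.1]⟩
  have h0 : (P : Subgroup G) ≠ ⊥ := fun e => hQ (Sylow.ext (P.3 Q.2 (e ▸ bot_le)))
  obtain ⟨z, hz, z1⟩ := exists_mem_ne_one (Zc_ne_bot (nil_of_isPGroup P.2) h0)
  have hu : ∀ R : Sylow p G, z ∈ (R : Subgroup G) → R = P := fun R hR => by_contra fun e => z1 (by
    refine mem_bot.1 (inf_ker hs hP hQ ▸ mem_inf.2 ⟨hP P hz.1, Equiv.ext fun T => show z • T = T from ?_⟩)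
    by_cases e1 : T = P
    · rw [e1, smul_self hz.1]
    · obtain ⟨v, hv, rfl⟩ := (tr1 R e).ge e1
      rw [← mul_smul, ← (mem_Zc.1 hz).2 v hv, mul_smul, smul_self hR])
  have key : ∀ x ∈ (P : Subgroup G), x ≠ 1 → ∃ g, x ∈ g •ᶜ zpowers z ∧
      ∀ R : Sylow p G, x ∈ (R : Subgroup G) → R = g • P := fun x hx x1 => by
    obtain ⟨g, hg⟩ := tr (zpowers z) (zpowers x) (P.2.to_le (zpowers_le.2 hz.1)) inferInstance
      inferInstance (by rw [Nat.card_zpowers, Nat.card_zpowers, orderOf_eq_prime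
        (tr.pow_eq_one hr P.2 hx) x1, orderOf_eq_prime (tr.pow_eq_one hr P.2 hz.1) z1])
    refine ⟨g, hg.le (mem_zpowers x), fun R hR => ?_⟩
    rw [← hu (g⁻¹ • R) ?_, smul_inv_smul]
    exact mem_conj.2 (by simpa using zpowers_le.2 hR (hg.ge (conj_mem_conj (mem_zpowers z))))
  have hc : ♯(P : Subgroup G) = p ^ (m + 1) := by
    rw [← ncard_orbit (Q := Q) fun x hx hx' => by_contra fun x1 => ?_, tr1 Q hQ, h1]
    obtain ⟨g, -, hg⟩ := key x hx x1
    exact hQ ((hg Q hx').trans (hg P hx).symm)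
  have := (core (syl_top P) ⟨ab_iff_le_cent.2 fun x hx => ?_, fun x => tr.pow_eq_one hr P.2⟩ hc (by omega)
    (E8.sol_of_not_four fun e => h16 ?_) tr).1
  · omega
  · by_cases x1 : x = 1
    · exact x1 ▸ one_mem _
    obtain ⟨g, e, hg⟩ := key x hx x1
    have := conj_mono g (zpowers_le.2 hz.2) e
    rwa [← cent_conj, conj_eq_of_mem_norm (Sylow.smul_eq_iff_mem_normalizer.1 (hg P hx).symm)] at this
  · rw [P.card_eq_index_normalizer] at hΩ
    exact 𝐍((P : Subgroup G)).card_mul_index ▸ mul_dvd_mul e (hΩ ▸ h4)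

end Cfsg.Agent.WF
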