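import Cfsg.Agent.Lib.WF.Lines
import Cfsg.Agent.Lib.E8.EC2

/-!
# Elementary abelian Sylow subgroups whose subgroups of equal order are conjugate
-/

set_option autoImplicit false
set_option linter.unusedSectionVars false

namespace Cfsg.Agent.WF

open Subgroup Cfsg.Agent.Coprime Cfsg.Agent.OO Cfsg.Agent.E8
open scoped Pointwise

universe u

variable {G : Type u} [Group G] [Finite G] {P : Subgroup G} {p n : ℕ} [hp : Fact p.Prime]

/-- `P` is the additive group of `F`, and its normalizer acts semilinearly -/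
structure Sl (P : Subgroup G) {F : Type*} [Field F] (a : F → G) : Prop where
  add : ∀ c d, a (c + d) = a c * a d
  inj : Function.Injective a
  mem : ∀ c, a c ∈ P
  surj : ∀ x ∈ P, ∃ c, a c = x
  semi : ∀ g ∈ 𝐍(P), ∃ (u : Fˣ) (σ : F ≃+* F), ∀ x, g * a x * g⁻¹ = a (u * σ x)

/-- Burnside's fusion lemma for subgroups -/
theorem fusion (hP : Syl p P ⊤) (ha : Ab P) {U : Subgroup G} {g : G} (hU : U ≤ P)
    (hg : g •ᶜ U ≤ P) : ∃ k ∈ 𝐍(P), g •ᶜ U = k •ᶜ U := by
  obtain ⟨c, hc, e⟩ := (hP.mono (ha.le_cent.trans (cent_anti hg)) le_top).exists_conj'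
    ((hP.conj_of_mem (mem_top g)).mono (by
      rw [cent_conj]; exact conj_mono g (ha.le_cent.trans (cent_anti hU))) le_top)
  refine ⟨c⁻¹ * g, ?_, ?_⟩
  · rw [← conj_eq_self_iff, ← conj_conj, e, inv_conj_conj]
  · rw [← conj_conj, conj_eq_of_mem_norm (inv_mem (cent_le_norm _ hc))]

theorem core_aux {E N : Type*} [CommGroup E] [Finite E] [Module (ZMod p) (Additive E)] [Group N]
    [Finite N] [Group.IsSolvable N] (ψ : N →* MulAut E) (hc : Nat.card E = p ^ (n + 1)) (h2 : 2 ≤ n)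
    (hd : ¬ p ∣ ψ.ker.index)
    (tr : ∀ U W : Subgroup E, ♯U = ♯W → ∃ g, ∀ x ∈ U, ψ g x ∈ W) :
    (n = 2 ∨ n = 4 ∧ p = 2) ∧ ψ.ker.index ∣ (n + 1) * (p ^ (n + 1) - 1) ∧
    gs p (n + 1) ∣ ψ.ker.index ∧ gs p (n + 1) * gs p n ∣ ψ.ker.index * (p + 1) ∧
    ∃ a : GaloisField p (n + 1) ≃+ Additive E, ∀ g, ∃ (u : (GaloisField p (n + 1))ˣ)
      (σ : GaloisField p (n + 1) ≃+* GaloisField p (n + 1)), ∀ x,
        ψ g (a x).toMul = (a (u * σ x)).toMul := by
  let φ := (PGrp.mulAutEquivLinear (p := p) (E := E)).toMonoidHom.comp ψ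
  have h1 : Nat.card φ.range = ψ.ker.index := by
    rw [← index_ker, MonoidHom.ker_comp_of_injective _ _ (MulEquiv.injective _)]
  have : Group.IsSolvable φ.range := Group.isSolvable_of_surjective φ.rangeRestrict_surjective
  have : Finite φ.range := Finite.of_surjective _ φ.rangeRestrict_surjective
  have hn : Module.finrank (ZMod p) (Additive E) = n + 1 :=
    Nat.pow_right_injective hp.out.two_le (PGrp.card_eq_pow_finrank.symm.trans hc)
  have tr' : ∀ U W : Submodule (ZMod p) (Additive E), Module.finrank (ZMod p) U =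
      Module.finrank (ZMod p) W → ∃ h : φ.range, h • U = W := fun U W e => by
    obtain ⟨g, hg⟩ := tr ((PGrp.toSubmodule (p := p)).symm U) ((PGrp.toSubmodule (p := p)).symm W) (by
      rw [PGrp.card_toSubmodule_symm, PGrp.card_toSubmodule_symm,
        Module.natCard_eq_pow_finrank (K := ZMod p), e, ← Module.natCard_eq_pow_finrank])
    refine ⟨⟨φ g, _, rfl⟩, Submodule.eq_of_le_of_finrank_eq ?_ ((finrank_smul _ U).trans e)⟩
    rintro _ ⟨x, hx, rfl⟩
    exact hg x.toMul hx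
  obtain ⟨e1, e2, a, ha⟩ := semilinear hn tr' h2 (h1 ▸ hd)
  obtain ⟨e3, e4⟩ := gs_dvd hn tr' (by omega)
  rw [h1] at e2 e3 e4
  exact ⟨e1, e2, e3, e4, a, fun g => ha ⟨φ g, _, rfl⟩⟩

theorem core (hP : Syl p P ⊤) (hel : IsElementaryAbelian p P) (hc : ♯P = p ^ (n + 1)) (h2 : 2 ≤ n)
    (hs : Sol 𝐍(P)) (tr : PGrp.ConjAbP p G) :
    (n = 2 ∨ n = 4 ∧ p = 2) ∧ 𝐂(P).relIndex 𝐍(P) ∣ (n + 1) * (p ^ (n + 1) - 1) ∧
    gs p (n + 1) ∣ 𝐂(P).relIndex 𝐍(P) ∧ gs p (n + 1) * gs p n ∣ 𝐂(P).relIndex 𝐍(P) * (p + 1) ∧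
    ∃ a : GaloisField p (n + 1) → G, Sl P a := by
  let _ : CommGroup P := { (inferInstance : Group P) with mul_comm := hel.1.is_comm.comm }
  have h1 : P.normalizerMonoidHom.ker.index = 𝐂(P).relIndex 𝐍(P) := by
    rw [normalizerMonoidHom_ker, relIndex]
  obtain ⟨e1, e2, e3, e4, a, ha⟩ := @core_aux p n _ P 𝐍(P) _ _
    (PGrp.zmodModule (p := p) (E := P) fun x => Subtype.ext (hel.2 x x.2)) _ _ hs
    P.normalizerMonoidHom hc h2 (h1 ▸ fun e => (hP.mono (le_norm_self P) le_top).not_dvd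
      (e.trans (relIndex_dvd_of_le_left _ (Ab.le_cent hel.1)))) fun U W e => by
    obtain ⟨g, hg⟩ := tr _ _ (hP.isPGroup.to_le (map_subtype_le U)) (ab_of_le hel.1 (map_subtype_le U))
      (ab_of_le hel.1 (map_subtype_le W)) (by rwa [card_subtype, card_subtype])
    obtain ⟨k, hk, e1⟩ := fusion hP hel.1 (g := g) (map_subtype_le U) (hg.ge.trans (map_subtype_le W))
    refine ⟨⟨k, hk⟩, fun x hx => ?_⟩
    obtain ⟨y, hy, e2⟩ := (hg.trans e1).ge (conj_mem_conj (g := k) ⟨x, hx, rfl⟩)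
    exact (show y = P.normalizerMonoidHom ⟨k, hk⟩ x from Subtype.ext e2) ▸ hy
  rw [h1] at e2 e3 e4
  refine ⟨e1, e2, e3, e4, fun x => (a x).toMul, fun c d => by rw [map_add]; rfl,
    fun c d e => a.injective (Additive.toMul.injective (Subtype.ext e)), fun c => (a c).toMul.2,
    fun x hx => ⟨a.symm (Additive.ofMul ⟨x, hx⟩), by rw [a.apply_symm_apply]; rfl⟩, fun g hg => ?_⟩
  obtain ⟨u, σ, h⟩ := ha ⟨g, hg⟩
  exact ⟨u, σ, fun x => congrArg Subtype.val (h x)⟩

namespace Sl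

variable {F : Type*} [Field F] {a : F → G} (sl : Sl P a)
include sl

theorem card : Nat.card F = ♯P := Nat.card_eq_of_bijective (fun c => ⟨a c, sl.mem c⟩)
  ⟨fun _ _ e => sl.inj (congrArg Subtype.val e), fun x => (sl.surj x x.2).imp fun _ => Subtype.ext⟩

theorem exists_hom [P.Normal] (hC : 𝐂(P) ≤ P) (hc : (♯P).Coprime P.index) :
    ∃ ρ : G →* semiaffineGroup F, Function.Injective ρ := by
  have zero : a 0 = 1 := left_eq_mul.1 (show a 0 = a 0 * a 0 by rw [← sl.add, add_zero])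
  obtain ⟨E, hE⟩ := exists_right_complement'_of_coprime hc
  have dec : ∀ g, ∃ b, ∃ e ∈ E, g = a b * e := fun g => by
    obtain ⟨⟨s, e⟩, rfl⟩ := hE.2 g
    obtain ⟨b, hb⟩ := sl.surj s s.2
    exact ⟨b, e, e.2, by rw [hb]⟩
  have dis : ∀ x ∈ P, x ∈ E → x = 1 := fun x => disjoint_def.1 hE.disjoint
  let β : F ≃ G ⧸ E := Equiv.ofBijective (fun x => a x) ⟨fun x y e => sl.inj (inv_mul_eq_one.1
    (dis _ (mul_mem (inv_mem (sl.mem x)) (sl.mem y)) (QuotientGroup.eq.1 e))), fun q => by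
      obtain ⟨b, e, he, h⟩ := dec q.out
      exact ⟨b, (QuotientGroup.eq.2 (by simpa [h] using he)).trans q.out_eq⟩⟩
  let ρ := β.symm.permCongrHom.toMonoidHom.comp (MulAction.toPermHom G (G ⧸ E))
  have key : ∀ b, ∀ e ∈ E, ∀ x y, e * a x * e⁻¹ = a y → ρ (a b * e) x = y + b := fun b e he x y h =>
    β.symm_apply_eq.2 (QuotientGroup.eq (a := a b * e * a x) (b := a (y + b)) |>.2 (by
      rw [add_comm, sl.add, ← h]; simpa [mul_assoc] using he))
  have semi := fun g => sl.semi g (le_normalizer_of_normal (mem_top g))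
  refine ⟨ρ.codRestrict _ fun g => ?_, (injective_iff_map_eq_one _).2 fun g hg => ?_⟩
  · obtain ⟨b, e, he, rfl⟩ := dec g
    obtain ⟨u, σ, h⟩ := semi e
    exact ⟨u, b, σ, fun x => key b e he x _ (h x)⟩
  · replace hg : ρ g = 1 := congrArg Subtype.val hg
    obtain ⟨b, e, he, rfl⟩ := dec g
    obtain ⟨u, σ, h⟩ := semi e
    have h1 : ∀ x, x = u * σ x + b := fun x => by rw [← key b e he x _ (h x), hg]; rfl
    have h2 : b = 0 := by simpa using (h1 0).symm
    rw [h2, zero, one_mul]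
    refine dis e (hC (mem_centralizer_iff.2 fun x hx => ?_)) he
    obtain ⟨c, rfl⟩ := sl.surj x hx
    rw [eq_comm, ← mul_inv_eq_iff_eq_mul, h, ← add_zero (u * σ c), ← h2, ← h1]

theorem equiv_semi [P.Normal] (hC : 𝐂(P) ≤ P) (hc : (♯P).Coprime P.index)
    (h : (♯P - 1) * Nat.card (F ≃+* F) ≤ P.index) : Nonempty (G ≃* semiaffineGroup F) := by
  have : Finite F := Finite.of_injective a sl.inj
  have : Finite (F ≃+* F) := Finite.of_injective _ DFunLike.coe_injective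
  obtain ⟨ρ, h1⟩ := sl.exists_hom hC hc
  refine ⟨MulEquiv.ofBijective ρ ((Nat.bijective_iff_injective_and_card _).2 ⟨h1,
    (Nat.card_le_card_of_injective _ h1).antisymm ?_⟩)⟩
  rw [← P.card_mul_index]
  refine le_trans ?_ (Nat.mul_le_mul_left _ h)
  choose u b σ e using fun π : semiaffineGroup F => π.2
  rw [← sl.card, ← Nat.card_units, ← Nat.card_prod, ← Nat.card_prod]
  refine Nat.card_le_card_of_injective (fun π => (b π, u π, σ π)) fun π π' e' => ?_
  simp only [Prod.mk.injEq] at e'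
  exact Subtype.ext (Equiv.ext fun x => by rw [e, e, e'.1, e'.2.1, e'.2.2])

end Sl

/-- the case of a normal self-centralizing Sylow subgroup -/
theorem normal_case [P.Normal] (hP : Syl p P ⊤) (hel : IsElementaryAbelian p P) (hc : ♯P = p ^ n)
    (h2 : 3 ≤ n) [hs : Group.IsSolvable G] (hC : 𝐂(P) ≤ P) (tr : PGrp.ConjAbP p G) :
    (n = 3 ∧ (∃ f : G →* semiaffineGroup (GaloisField p 3), Function.Injective f) ∧
      (p = 2 → Nonempty (G ≃* semiaffineGroup (GaloisField 2 3)) ∨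
        Nonempty (G ≃* affineGroup (GaloisField 2 3)))) ∨
    (n = 5 ∧ p = 2 ∧ Nonempty (G ≃* semiaffineGroup (GaloisField 2 5))) := by
  obtain ⟨n, rfl⟩ : ∃ k, n = k + 1 := ⟨n - 1, by omega⟩
  obtain ⟨e1, e2, e3, e4, a, sl⟩ := core hP hel hc (by omega) inferInstance tr
  have cop : (♯P).Coprime P.index := relIndex_top_right P ▸ hP.hall.coprime
  rw [normalizer_eq_top, relIndex_top_right, hC.antisymm (Ab.le_cent hel.1)] at e2 e3 e4
  have h0 := Nat.pos_of_ne_zero (P.index_ne_zero_of_finite)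
  rcases e1 with rfl | ⟨rfl, rfl⟩
  · refine .inl ⟨rfl, sl.exists_hom hC cop, ?_⟩
    rintro rfl
    obtain ⟨k, hk⟩ : 7 ∣ P.index := e3
    rw [hk] at e2
    rcases (Nat.dvd_prime Nat.prime_three).1 ((Nat.mul_dvd_mul_iff_left (by norm_num : 0 < 7)).1 e2)
      with rfl | rfl
    · obtain ⟨t, ht, t1⟩ := exists_mem_ne_one (H := P) (by rintro rfl; simp at hc)
      have : Fact (Nat.Prime 7) := ⟨by norm_num⟩
      have := isCyclic_of_prime_card (α := G ⧸ P) hk
      obtain ⟨b, fr⟩ := exists_fr (R := ⊤) hc hel.1 le_normalizer_of_normal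
        ((Normal.quotient_commutative_iff_commutator_le.1 inferInstance).trans (Ab.le_cent hel.1))
        ht t1 fun s hs s1 => by
        have o2 : ∀ x ∈ P, x * x = 1 := fun x hx => (pow_two x).symm.trans (hel.2 x hx)
        obtain ⟨g, hg⟩ := tr (zpowers t) (zpowers s) (hP.isPGroup.to_le (zpowers_le.2 ht))
          inferInstance inferInstance
          ((card_zpowers_two t1 (o2 t ht)).trans (card_zpowers_two s1 (o2 s hs)).symm)
        exact ⟨g, mem_top g, eq_of_mem_zpowers (o2 s hs) (hg ▸ conj_mem_conj (mem_zpowers t))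
          (BSW.conj_ne_one t1)⟩
      exact .inr (fr.equiv_affine rfl hC cop)
    · exact .inl (sl.equiv_semi hC cop (by
        rw [hk, hc]; exact Nat.mul_le_mul_left _ (card_ringEquiv_le 2 3 (by omega))))
  · refine .inr ⟨rfl, rfl, sl.equiv_semi hC cop ((Nat.mul_le_mul_left _
      (card_ringEquiv_le 2 5 (by omega))).trans ?_)⟩
    have : 31 * 15 ≤ P.index * 3 := Nat.le_of_dvd (by omega) e4
    omega

end Cfsg.Agent.WF
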