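import Cfsg.Agent.Lib.WF.Bor
import Cfsg.Agent.Lib.WF.Asm
import Cfsg.Agent.Lib.Wal.K1
import Cfsg.Agent.Lib.SE.Basic
import Cfsg.Agent.Lib.PGrp.ConjOrder3
import Cfsg.Agent.S4021

/-!
# Simple normal subgroups of groups whose abelian `p`-subgroups of equal order are conjugate
-/

set_option autoImplicit false
set_option linter.unusedSectionVars false

namespace Cfsg.Agent.WF

open Subgroup Cfsg.Agent.Coprime Cfsg.Agent.OO Cfsg.Agent.PGrp R1
open scoped Pointwise MatrixGroups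

universe u

variable {G : Type u} [Group G] [Finite G] {M U : Subgroup G} {p q : ℕ} {z : G}

omit [Finite G] in
theorem isP_zp {k : ℕ} (h : z ^ p ^ k = 1) : IsPGroup p (zpowers z) := by
  rintro ⟨_, n, rfl⟩
  exact ⟨k, Subtype.ext (show (z ^ n) ^ p ^ k = 1 by
    rw [← zpow_natCast, zpow_comm, zpow_natCast, h, one_zpow])⟩

theorem CA.of_equiv {L : Type*} [Group L] (e : M ≃* L) (h : CA ⊤ (G := L) p) : CA M p :=
  fun x hx x1 k hk => by
  obtain ⟨h1, h2⟩ := h (e ⟨x, hx⟩) trivial (by simpa using x1) k (by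
    rw [← map_pow, map_eq_one_iff _ e.injective]; exact Subtype.ext hk)
  rw [← map_pow, map_eq_one_iff _ e.injective] at h1
  have h3 : ∀ a (ha : a ∈ M ⊓ 𝐂[x]), e ⟨a, ha.1⟩ ∈ ⊤ ⊓ 𝐂[e ⟨x, hx⟩] := fun a ha => ⟨trivial, mem_cent1.2 (by
    rw [← map_mul, ← map_mul]; exact congrArg e (Subtype.ext (mem_cent1.1 ha.2)))⟩
  refine ⟨congrArg Subtype.val h1, ab_iff.2 fun a ha b hb => ?_⟩
  have := ab_iff.1 h2 _ (h3 a ha) _ (h3 b hb)
  rw [← map_mul, ← map_mul] at this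
  exact congrArg Subtype.val (e.injective this)

theorem ca_two (h : BSW.CA2 G) : CA ⊤ (G := G) 2 := fun x _ x1 k hk => by
  obtain ⟨P, hP⟩ := (isP_zp hk).exists_le_sylow
  exact ⟨(pow_two x).trans (SE.ca_syl h P (zpowers_le.1 hP) x1).2,
    ab_iff.2 fun a ha b hb => h.ca x a b x1 (mem_cent1.1 ha.2) (mem_cent1.1 hb.2)⟩

theorem ca_odd {F : Type} [Field F] [Fintype F] (h2 : (2 : F) ≠ 0) [hp : Fact p.Prime] [CharP F p] :
    CA ⊤ (G := PSL(2, F)) p := fun x _ x1 k hk => by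
  have p2 : (p ^ k).Coprime 2 := .pow_left _ ((Nat.coprime_primes hp.out Nat.prime_two).2 (by
    rintro rfl; exact h2 (CharP.cast_eq_zero F 2)))
  have h1 : ∀ y : PSL(2, F), y ^ p ^ k = 1 → y ^ 2 = 1 → y = 1 := fun y e e' =>
    (pow_one y).symm.trans (p2 ▸ pow_gcd_eq_one.2 ⟨e, e'⟩)
  obtain ⟨h3, h4⟩ := MN.cent_psl h2 p fun e => x1 (h1 x hk ((pow_two x).trans e))
  have h5 : p ∣ 2 * ♯𝐂[x] := ((dvd_card_of_isPGroup (isP_zp hk) (by simpa using x1)).trans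
    (card_dvd (zpowers_le.2 (mem_cent1_self x)))).mul_left 2
  have h6 : p ∣ Fintype.card F := (CharP.cast_eq_zero_iff F p _).1 (FiniteField.cast_card_eq_zero F)
  have h7 := Fintype.card_pos (α := F)
  refine ⟨?_, ab_of_le h3 inf_le_right⟩
  rcases h4 with e | e | e
  · exact h1 _ (by rw [← pow_mul, mul_comm, pow_mul, hk, one_pow]) (by rwa [← pow_mul, mul_comm])
  · exact absurd (Nat.dvd_sub h6 (e ▸ h5)) (by rw [Nat.sub_sub_self h7]; exact hp.out.not_dvd_one)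
  · exact absurd ((Nat.dvd_add_right h6).1 (e ▸ h5)) hp.out.not_dvd_one

theorem card_syl [hp : Fact p.Prime] (hU : Syl p U M) {d f : ℕ} (hd : ¬ p ∣ d) (hf : f ≠ 0)
    (h : d * ♯M = p ^ f * ((p ^ f - 1) * (p ^ f + 1))) : ♯U = p ^ f := by
  obtain ⟨a, ha⟩ := IsPGroup.iff_card.1 hU.isPGroup
  rw [← OO.card_mul_relIndex hU.le, mul_left_comm] at h
  have h1 := dvd_pow_self p hf
  refine eq_of_mul_eq_mul_of_coprime h (ha ▸ .pow_left _ (hp.out.coprime_iff_not_dvd.2 fun e => ?_))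
    (.pow_left _ (hp.out.coprime_iff_not_dvd.2 (hp.out.not_dvd_mul hd hU.not_dvd)))
  rcases (Nat.Prime.dvd_mul hp.out).1 e with e | e
  · exact absurd (Nat.dvd_sub h1 e) (by
      rw [Nat.sub_sub_self (Nat.one_le_pow _ _ hp.out.pos)]; exact hp.out.not_dvd_one)
  · exact absurd ((Nat.dvd_add_right h1).1 e) hp.out.not_dvd_one

theorem central (hr : PRankLE 2 1 G) (hO : pPrimeCore 2 G = ⊥) (z1 : z ≠ 1) (z2 : z * z = 1) :
    z ∈ center G ∧ ∀ u, u * u = 1 → u ∈ zpowers z := by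
  have key : ∀ u, u * u = 1 → z * u = u * z → u ∈ zpowers z := fun u u2 e => by_contra fun e' => by
    have := S4021.four z1 z2 u2 e e'
    exact absurd (hr _ this.abelem.1 this.abelem.2) (by rw [this.card]; norm_num)
  have hc : ∀ g, g * z = z * g := fun g => by
    have := R1.zstar G z z2 (fun g e => E8.eq_of_mem_zpowers z2 (key _ (BSW.conj_mul_self z2) e)
      (BSW.conj_ne_one z1)) g
    rwa [hO, mem_bot, mul_inv_eq_one, mul_inv_eq_iff_eq_mul] at this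
  exact ⟨mem_center_iff.2 hc, fun u u2 => key u u2 (hc u).symm⟩

theorem ab2_of_rank (tr : ConjAbP 2 G) (hr : ¬ PRankLE 2 1 G) : Ab2 G :=
  fun _ hP => isMulCommutative_of_sq_eq_one fun _ => tr.pow_eq_one hr hP

theorem not_sixteen {t : G} {H L : Subgroup G} {F : Type} [Field F] [Fintype F] (h : JRs t H L F)
    (h2 : Ab2 G) : ¬ 16 ∣ Nat.card G := fun e => by
  obtain ⟨S, hS, ht⟩ := exists_syl_ge le_top (SE.isPGroup_zp h.t2)
  have h1 : ¬ 2 ∣ 𝐂[t].index := fun e => hS.not_dvd (relIndex_top_right S ▸ e.trans (index_dvd_of_le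
    ((Ab.le_cent (h2 S hS.isPGroup)).trans (cent_le_cent1 (zpowers_le.1 ht)))))
  obtain ⟨i⟩ := h.iso
  rw [← 𝐂[t].card_mul_index, SE.jr_card_cent h, ← OO.card_mul_relIndex h.le, Nat.card_congr i.toEquiv,
    mul_assoc, mul_assoc, show 16 = 2 * 2 ^ 3 from rfl, Nat.mul_dvd_mul_iff_left two_pos] at e
  exact SE.not_eight_dvd h.mod ((Nat.Coprime.pow_left 3 (Nat.prime_two.coprime_iff_not_dvd.2
    (Nat.prime_two.not_dvd_mul h.odd.not_two_dvd_nat h1))).dvd_of_dvd_mul_right e)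

/-- `M` is simple, and abelian subgroups of `G` of the same prime power order are conjugate -/
structure DG (M : Subgroup G) : Prop where
  tr : ∀ p : ℕ, p.Prime → ConjAbP p G
  hs : IsSimpleGroup M
  hn : ¬ Ab M

namespace DG

variable [M.Normal] (h : DG M)
include h

theorem smp : GW.Smp M := SE.smp_of_simple h.hs

theorem two : 2 ∣ ♯M := card_top (G := M) ▸ haveI := h.hs; Wal.two_dvd h.hn

theorem rank : ¬ PRankLE 2 1 G := fun hr => by
  have := h.hs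
  obtain ⟨t, -, t1, t2⟩ := SE.exists_inv (Wal.two_dvd h.hn)
  have := (central (pRankLE_subgroup hr M) ((IsSimpleGroup.eq_bot_or_eq_top_of_normal _ inferInstance).resolve_right
    fun e => Core.not_dvd_card_pPrimeCore (e ▸ Wal.two_dvd h.hn)) t1 t2).1
  rcases (inferInstance : (center M).Normal).eq_bot_or_eq_top with e | e
  · exact t1 (mem_bot.1 (e ▸ this))
  · exact h.hn ⟨⟨fun a b => mem_center_iff.1 (e.ge (mem_top b)) a⟩⟩

theorem not_dvd [hp : Fact p.Prime] (hd : p ∣ ♯M) : ¬ p ∣ M.index := by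
  by_cases hr : PRankLE p 1 G
  swap
  · exact (h.tr p hp.out).not_dvd_index hr hd
  obtain ⟨R, hR⟩ := exists_syl p (⊤ : Subgroup G)
  have hc := isCyclic_of_rank_le_one_of_odd hR.isPGroup (by rintro rfl; exact h.rank hr)
    (pRankLE_subgroup hr R)
  rcases cyclic_Sylow_tiVsub_der1 (hR.mono (le_sup_right : R ≤ M ⊔ R) le_top) hc with e | e
  · exact absurd (le_bot_iff.1 (e ▸ inf_le_inf_left R ((h.smp.perfect h.hn).ge.trans
      (der_mono le_sup_left)))) ((hR.inf_normal (normalIn_top.2 ‹_›)).ne_bot hd)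
  · refine fun e' => hR.not_dvd (relIndex_top_right R ▸ e'.trans (index_dvd_of_le (e.trans ?_)))
    rw [← Core.map_mk_eq_bot_iff, map_der, ← ab_iff_der, Subgroup.map_sup, (Core.map_mk_eq_bot_iff _ _).2 le_rfl,
      bot_sup_eq]
    exact ab_map (ab_of_isCyclic hc) _

theorem coprime : (♯M).Coprime M.index := Nat.Coprime.symm (Nat.coprime_of_dvd fun _ hp h1 h2 =>
  haveI := Fact.mk hp; h.not_dvd h2 h1)

theorem le [hp : Fact p.Prime] (hd : p ∣ ♯M) (Q : Sylow p G) : (Q : Subgroup G) ≤ M :=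
  le_of_coprime_relIndex le_top le_normalizer_of_normal (by
    obtain ⟨k, hk⟩ := IsPGroup.iff_card.1 Q.2
    rw [relIndex_top_right, hk]
    exact (hp.out.coprime_iff_not_dvd.2 (h.not_dvd hd)).pow_left k)

theorem syl [Fact p.Prime] (hd : p ∣ ♯M) (Q : Sylow p G) : Syl p (Q : Subgroup G) M :=
  (syl_top Q).mono (h.le hd Q) le_top

theorem ab2 : Ab2 G := ab2_of_rank (h.tr 2 Nat.prime_two) h.rank

theorem even {n : ℕ} (hn : 3 ≤ n + 1) (e : M ≃* PSL(2, GaloisField 2 (n + 1))) (S : Sylow 2 G) :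
    CA M 2 ∧ 1 * ♯M = 2 ^ (n + 1) * ((2 ^ (n + 1) - 1) * (2 ^ (n + 1) + 1)) ∧
    ♯(S : Subgroup G) = 2 ^ (n + 1) ∧ (n = 2 ∨ n = 4) ∧
    𝐂((S : Subgroup G)).relIndex 𝐍((S : Subgroup G)) ∣ (n + 1) * (2 ^ (n + 1) - 1) ∧
    gs 2 (n + 1) * gs 2 n ∣ 𝐂((S : Subgroup G)).relIndex 𝐍((S : Subgroup G)) * 3 := by
  have h1 := CA.of_equiv e (ca_two (BSW.ca2_SL2.of_injective BSW.pslEquiv.toMonoidHom
    BSW.pslEquiv.injective))
  have h2 : 1 * ♯M = 2 ^ (n + 1) * ((2 ^ (n + 1) - 1) * (2 ^ (n + 1) + 1)) := by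
    rw [Nat.card_congr e.toEquiv, BSW.card_psl (n := n + 1) (by omega)]; ring
  have h3 := card_syl (h.syl h.two S) (by norm_num) n.succ_ne_zero h2
  obtain ⟨k1, k2, -, k3, -⟩ := core (syl_top S) (h1.abelem S.2 (h.le h.two S)) h3 (by omega)
    (E8.sol_norm S.2 fun e => S.not_dvd_index (by
      rw [← (S : Subgroup G).card_mul_index, mul_comm, Nat.mul_dvd_mul_iff_left Nat.card_pos] at e
      omega)) (h.tr 2 Nat.prime_two)
  exact ⟨h1, h2, h3, by omega, k2, k3⟩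

theorem cases (w : Walter.{u}) (jr : JR.{u}) :
    (8 ∣ ♯M ∧ ∃ n, 3 ≤ n + 1 ∧ Nonempty (M ≃* PSL(2, GaloisField 2 (n + 1)))) ∨
    (∃ (F : Type) (_ : Field F) (_ : Fintype F), 5 ≤ Fintype.card F ∧
      (Fintype.card F % 8 = 3 ∨ Fintype.card F % 8 = 5) ∧ Nonempty (M ≃* PSL(2, F))) ∨
    ♯M = 175560 ∧ ∃ (t : M) (H L : Subgroup M) (F : Type) (_ : Field F) (_ : Fintype F),
      JRs t H L F ∧ Fintype.card F = 5 := by
  by_cases h8 : 8 ∣ ♯M
  swap
  · exact .inr (.inl (gw4 M h.hs h.hn h8))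
  have h2 := SE.ab2_sub h.ab2 M
  rcases w M h.hs h.hn h2 with ⟨n, hn, ⟨e⟩⟩ | e | ⟨t, H, L, F, _, _, e⟩
  · obtain ⟨n, rfl⟩ : ∃ k, n = k + 1 := ⟨n - 1, by omega⟩
    refine .inl ⟨h8, n, by_contra fun e' => ?_, ⟨e⟩⟩
    obtain rfl : n = 1 := by omega
    rw [Nat.card_congr e.toEquiv, BSW.card_psl two_ne_zero] at h8
    omega
  · exact .inr (.inl e)
  rcases jr M t H L F e with ⟨k1, k2⟩ | ⟨k, hk, k1, k2, k3⟩
  · exact .inr (.inr ⟨k2, t, H, L, F, _, _, e, k1⟩)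
  exfalso
  obtain ⟨i⟩ := e.iso
  obtain ⟨p, _⟩ := CharP.exists F
  obtain ⟨f, hp, hf⟩ := FiniteField.card F p
  obtain rfl : p = 3 := (Nat.prime_dvd_prime_iff_eq hp Nat.prime_three).1
    (hp.dvd_of_dvd_pow (k1 ▸ hf ▸ dvd_pow_self p f.ne_zero))
  have h3 := CIT.card_PSL2 (SE.two_ne_zero_of_mod e.mod)
  obtain ⟨U, hU⟩ := exists_syl 3 L
  have h4 := card_syl (d := 2) hU (by norm_num) (2 * k).succ_ne_zero (by rwa [Nat.card_congr i.toEquiv, ← k1])
  have h5 : 3 ^ 3 ≤ ♯U := h4 ▸ Nat.pow_le_pow_right three_pos (by omega)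
  have h6 := (CA.of_equiv i (ca_odd (SE.two_ne_zero_of_mod e.mod))).abelem hU.isPGroup hU.le
  rw [k1, ← pow_mul, show (2 * k + 1) * 3 = 6 * k + 2 + 1 by ring] at k2
  refine ree h.smp (h.le ((h4 ▸ dvd_pow_self 3 (by omega)).trans (card_subgroup_dvd_card U)))
    (h.tr 3 hp) (fun hr => absurd (pRankLE_subgroup hr M U h6.1 h6.2) (by omega)) (by omega) k2 k3
    (by simpa using Odd.nat_add_dvd_pow_add_pow 3 1 (n := 6 * k + 2 + 1) ⟨3 * k + 1, by ring⟩) fun e' => ?_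
  rw [← M.card_mul_index] at e'
  exact not_sixteen e h2 ((Nat.Coprime.pow_left 4 (Nat.prime_two.coprime_iff_not_dvd.2
    (h.not_dvd h.two))).dvd_of_dvd_mul_right e')

end DG

end Cfsg.Agent.WF
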