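import Cfsg.Agent.S4273
import Cfsg.Prelude.Def_Spor_J1

/-!
# A simple group of order 175560 is the matrix group of Janko
-/

set_option autoImplicit false

namespace Cfsg.Agent.WF

open Subgroup JO

def dg (c t : ℕ) : ℕ := Nat.mod (Nat.div c (Nat.pow 16 t)) 16

/-- the matrix whose entries are the hexadecimal digits of `c` -/
def dec (c : ℕ) : Matrix (Fin 7) (Fin 7) (ZMod 11) := Matrix.of fun i j => (dg c (7 * i + j) : ℕ)

noncomputable def enc (f : ℕ → ℕ) (n : ℕ) : ℕ :=
  Nat.rec 0 (fun k ih => Nat.add ih (Nat.mul (f k) (Nat.pow 16 k))) n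

theorem enc_spec {f : ℕ → ℕ} (h : ∀ t, f t < 16) (n : ℕ) :
    enc f n < 16 ^ n ∧ ∀ s < n, dg (enc f n) s = f s := by
  induction n with
  | zero => exact ⟨one_pos, fun _ h => absurd h (Nat.not_lt_zero _)⟩
  | succ k ih =>
  have h1 := h k
  refine ⟨show enc f k + f k * 16 ^ k < _ by rw [pow_succ]; nlinarith [ih.1], fun s hs => ?_⟩
  show (enc f k + f k * 16 ^ k) / 16 ^ s % 16 = _
  rcases (Nat.lt_succ_iff.1 hs).eq_or_lt with rfl | hs
  · rw [Nat.add_mul_div_right _ _ (by positivity), Nat.div_eq_of_lt ih.1, zero_add, Nat.mod_eq_of_lt h1]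
  · obtain ⟨d, rfl⟩ := Nat.exists_eq_add_of_lt hs
    rw [show f (s + d + 1) * 16 ^ (s + d + 1) = 16 * (f (s + d + 1) * 16 ^ d) * 16 ^ s by ring,
      Nat.add_mul_div_right _ _ (by positivity), Nat.add_mul_mod_self_left]
    exact ih.2 s hs

def me (a b i j : ℕ) : ℕ := (dg a (7 * i + 0) * dg b (7 * 0 + j) + dg a (7 * i + 1) * dg b (7 * 1 + j) +
  dg a (7 * i + 2) * dg b (7 * 2 + j) + dg a (7 * i + 3) * dg b (7 * 3 + j) +
  dg a (7 * i + 4) * dg b (7 * 4 + j) + dg a (7 * i + 5) * dg b (7 * 5 + j) +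
  dg a (7 * i + 6) * dg b (7 * 6 + j)) % 11

noncomputable def mc (a b : ℕ) : ℕ := enc (fun t => me a b (t / 7) (t % 7)) 49

theorem dec_mc (a b : ℕ) : dec (mc a b) = dec a * dec b := by
  ext i j
  have := (enc_spec (f := fun t => me a b (t / 7) (t % 7))
    (fun t => (Nat.mod_lt _ (by norm_num)).trans (by norm_num)) 49).2 (7 * i + j) (by omega)
  simp only [dec, mc, Matrix.of_apply, this, Matrix.mul_apply, Fin.sum_univ_seven]
  rw [show (7 * (i : ℕ) + j) / 7 = i by omega, show (7 * (i : ℕ) + j) % 7 = j by omega, me,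
    ZMod.natCast_mod]
  push_cast
  rfl

/-- the product of `x` and the word `w` is `t` -/
noncomputable def chk (c : ℕ → ℕ) (t : ℕ) (w : List ℕ) : ℕ → Bool :=
  List.rec (Nat.beq t) (fun h _ ih x => frc (mc x (c h)) ih) w

theorem chk_spec {G : Type*} [Group G] (φ : G →* Matrix (Fin 7) (Fin 7) (ZMod 11)) {γ : ℕ → G}
    {c : ℕ → ℕ} (H : ∀ i, φ (γ i) = dec (c i)) {t : ℕ} (w : List ℕ) :
    ∀ (x : G) (cx : ℕ), φ x = dec cx → chk c t w cx = true → φ (ev γ w x) = dec t := by
  induction w with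
  | nil => exact fun x cx h e => by rw [Nat.eq_of_beq_eq_true e]; exact h
  | cons i w ih => exact fun x cx h e => ih _ _ (by rw [map_mul, h, H, dec_mc]) ((frc_eq _ _).symm.trans e)

def c1 : ℕ := 0x1000000010000000100000001000000010000000100000001
def cXY : ℕ → ℕ
  | 0 => 0x0000001100000001000000010000000100000001000000010
  | _ => 0x13119333119331aa288a8a288a8a288a8aa33131198a8aa28
def cD : ℕ → ℕ := sel 0xa0000000a0000000a000000010000000a0000000100000001
  0x8090018070950090800180905700050790010100818080019 0xa0000000a000000010000000a00000001000000010000000a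
  0x3a10100a28080018302000007025182030000020540005049 0xa000000010000000a00000001000000010000000a0000000a c1
def cT : ℕ := 0x3a1988aa1283131233a8a98318aa83a8119818a193a3aa933
def wD : ℕ → List ℕ := sel [0, 1, 0, 0, 1, 1, 1, 1, 0] [1, 1, 0, 1, 0, 0, 1, 1, 1, 0, 0, 1, 1, 1]
  [1, 0, 0, 1, 1, 1, 1, 0, 0] [0, 1, 1, 0, 1, 1, 0, 1, 1, 0, 1, 0, 1, 1, 0] [0, 1, 0, 1, 1, 1, 1] []

def jφ : Spor.J1 →* Matrix (Fin 7) (Fin 7) (ZMod 11) := (Units.coeHom _).comp Spor.J1.subtype

theorem jφ_inj : Function.Injective jφ := Units.val_injective.comp Subtype.val_injective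

def jXY : ℕ → Spor.J1
  | 0 => ⟨Spor.jankoX, Subgroup.subset_closure (.inl rfl)⟩
  | _ => ⟨Spor.jankoY, Subgroup.subset_closure (.inr rfl)⟩

def jD (i : ℕ) : Spor.J1 := ev jXY (wD i) 1

theorem dec_one : jφ 1 = dec c1 := by rw [map_one]; decide +kernel

theorem dec_XY : ∀ i, jφ (jXY i) = dec (cXY i)
  | 0 => show jankoMatrixX = _ by decide +kernel
  | _ + 1 => show jankoMatrixY = dec (cXY 1) by decide +kernel

theorem dec_D : ∀ i, jφ (jD i) = dec (cD i)
  | 0 | 1 | 2 | 3 | 4 => chk_spec jφ dec_XY _ _ _ dec_one (by decide +kernel)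
  | _ + 5 => dec_one

theorem ev_D {w : List ℕ} {t : ℕ} {x : Spor.J1} (hx : jφ x = dec t) (h : chk cD t w c1 = true) :
    ev jD w 1 = x := jφ_inj ((chk_spec jφ dec_D _ _ _ dec_one h).trans hx.symm)

theorem rels_D : ∀ w ∈ rels xI yI w0, ev jD w 1 = 1 := fun w hw => ev_D dec_one
  (List.all_eq_true.1 (show (rels xI yI w0).all (chk cD c1 · c1) = true by decide +kernel) w hw)

theorem sq_D : ∀ i, jD i * jD i = 1
  | 0 | 1 | 2 | 3 | 4 => (mul_assoc 1 _ _).symm.trans (rels_D [_, _] (by decide)) |> (one_mul _).symm.trans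
  | _ + 5 => one_mul 1

theorem gen_D : Subgroup.closure (Set.range fun i : Fin 5 => jD i) = ⊤ := by
  have h : ∀ w, ev jD w 1 ∈ Subgroup.closure (Set.range fun i : Fin 5 => jD i) := fun w => ev_mem (fun i => by
    match i with
    | 0 | 1 | 2 | 3 | 4 => exact Subgroup.subset_closure ⟨⟨_, by omega⟩, rfl⟩
    | _ + 5 => exact one_mem _) w _ (one_mem _)
  refine top_unique ((closure_closure_coe_preimage).ge.trans ((closure_le _).2 ?_))
  rintro ⟨x, hx⟩ (rfl | rfl)
  · exact (ev_D (w := [3, 2, 4, 3, 4, 3, 2, 1, 0, 2, 1, 2, 1]) (dec_XY 0) (by decide +kernel)).subst (h _)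
  · exact (ev_D (w := [1, 2, 1, 2, 1, 3, 4, 3, 2, 1, 0, 2, 3]) (dec_XY 1) (by decide +kernel)).subst (h _)

theorem det_one (j : Spor.J1) : (jφ j).det = 1 := by
  obtain ⟨j, hj⟩ := j
  show (j : Matrix (Fin 7) (Fin 7) (ZMod 11)).det = 1
  induction hj using closure_induction with
  | one => exact Matrix.det_one
  | mul x y _ _ h1 h2 => rw [Units.val_mul, Matrix.det_mul, h1, h2, one_mul]
  | inv x _ h => rw [Matrix.coe_units_inv, Matrix.det_nonsing_inv, h, Ring.inverse_one]
  | mem x hx =>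
    have k : ∀ w t, chk cXY c1 w c1 = true → ev jXY w 1 = t → (jφ t).det = 1 := fun w t h e => by
      rw [← e, chk_spec jφ dec_XY _ _ _ dec_one h, ← dec_one, map_one, Matrix.det_one]
    rcases hx with rfl | rfl
    · have := k [0, 0, 0, 0, 0, 0, 0] (jXY 0 ^ 7) (by decide +kernel) (by simp [ev_cons, ev_nil, pow_succ])
      rw [map_pow, Matrix.det_pow] at this
      exact (by decide : ∀ c : ZMod 11, c ^ 7 = 1 → c = 1) _ this
    · have := k [1, 1, 1, 1, 1] (jXY 1 ^ 5) (by decide +kernel) (by simp [ev_cons, ev_nil, pow_succ])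
      rw [map_pow, Matrix.det_pow] at this
      have h2 := congrArg Matrix.det (show jankoMatrixY * jankoMatrixY.transpose = 1 from
        Spor.jankoY.val_inv)
      rw [Matrix.det_mul, Matrix.det_transpose, Matrix.det_one] at h2
      exact (by decide : ∀ c : ZMod 11, c ^ 5 = 1 → c * c = 1 → c = 1) _ this h2

theorem fact11 : Fact (Nat.Prime 11) := ⟨by norm_num⟩

attribute [local instance] fact11 in
theorem eq_one_of_comm (j : Spor.J1) (h : ∀ g, j * (g * jD 4 * g⁻¹) = g * jD 4 * g⁻¹ * j) : j = 1 := by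
  have k : ∀ w t, chk cD t (w ++ [4] ++ w.reverse) c1 = true → jφ j * dec t = dec t * jφ j :=
    fun w t e => by
    rw [← chk_spec jφ dec_D _ _ _ dec_one e, ← map_mul, ← map_mul, ev_append, ev_append,
      ev_eq w.reverse, ev_reverse sq_D]
    exact congrArg jφ (h _)
  have kd : ∀ w t, chk cD t (w ++ [4] ++ w.reverse) c1 = true → dec t = .diagonal (dec t).diag →
      ∀ a b, dec t a a ≠ dec t b b → jφ j a b = 0 := fun w t e e1 a b h => by
    have := congrFun (congrFun (k w t e) a) b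
    rw [e1, Matrix.mul_diagonal, Matrix.diagonal_mul, mul_comm] at this
    exact (mul_eq_mul_right_iff.1 this).resolve_left h.symm
  have h1 : jφ j = .diagonal (jφ j).diag := (Matrix.IsDiag.diagonal_diag fun a b hab => by
    rcases (by decide +kernel : ∀ a b, a ≠ b → dec (cD 0) a a ≠ dec (cD 0) b b ∨
      dec (cD 2) a a ≠ dec (cD 2) b b ∨ dec (cD 4) a a ≠ dec (cD 4) b b) a b hab with e | e | e
    · exact kd [1, 0, 2, 1, 2, 1, 3, 2, 4, 3, 4, 3] _ (by decide +kernel) (by decide +kernel) a b e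
    · exact kd [3, 2, 4, 3, 4, 3] _ (by decide +kernel) (by decide +kernel) a b e
    · exact kd [] _ (by decide +kernel) (by decide +kernel) a b e).symm
  have h2 : (jφ j).diag = fun _ => jφ j 0 0 := funext fun b => by
    have := congrFun (congrFun (k [1, 2, 3] cT (by decide +kernel)) 0) b
    rw [h1, Matrix.mul_diagonal, Matrix.diagonal_mul, mul_comm] at this
    exact (mul_left_cancel₀ ((by decide +kernel : ∀ b, dec cT 0 b ≠ 0) b) this).symm
  have h3 := det_one j
  rw [h1, h2, Matrix.det_diagonal, Finset.prod_const] at h3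
  refine jφ_inj ?_
  rw [h1, h2, (by decide : ∀ c : ZMod 11, c ^ 7 = 1 → c = 1) _ h3, map_one, Matrix.diagonal_one]

theorem isoJ1 {G : Type*} [Group G] [Finite G] [IsSimpleGroup G] (hG : Nat.card G = 175560) :
    Spor.IsoJ1 G := by
  obtain ⟨ρ, γ, -, h2, h3⟩ := rep hG
  obtain ⟨p, p0, hp⟩ := table sq_D rfl rels_D
  let R : Subgroup (G × Spor.J1) := Subgroup.closure (Set.range fun i : Fin 5 => (γ i, jD i))
  have inv : ∀ r ∈ R, ∀ u : Fin 1463, r.2 * p u * r.2⁻¹ = p (ρ r.1 u) := fun r h0 => by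
    induction h0 using closure_induction with
    | one => simp
    | mul x y _ _ e1 e2 =>
      intro u; rw [Prod.fst_mul, map_mul, Equiv.Perm.mul_apply, ← e1, ← e2, Prod.snd_mul]; group
    | inv x _ e =>
      intro u
      have := e (ρ x.1⁻¹ u)
      rw [← Equiv.Perm.mul_apply, ← map_mul, mul_inv_cancel, map_one, Equiv.Perm.one_apply] at this
      rw [← this, Prod.snd_inv, Prod.fst_inv]; group
    | mem x hx =>
      obtain ⟨i, rfl⟩ := hx
      exact fun u => by rw [h3, ← (hp u u.2 i i.2).2, GW.inv_eq (sq_D i)]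
  have s1 : Function.Surjective ((MonoidHom.fst _ _).comp R.subtype) := by
    rw [← MonoidHom.range_eq_top, MonoidHom.range_comp, range_subtype, MonoidHom.map_closure, ← Set.range_comp]
    exact h2
  have s2 : Function.Surjective ((MonoidHom.snd _ _).comp R.subtype) := by
    rw [← MonoidHom.range_eq_top, MonoidHom.range_comp, range_subtype, MonoidHom.map_closure, ← Set.range_comp]
    exact gen_D
  let e := MulEquiv.ofBijective _ ⟨(injective_iff_map_eq_one _).2 fun r h0 => Subtype.ext (Prod.ext h0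
    (eq_one_of_comm _ fun g => by
      obtain ⟨s, rfl⟩ := s2 g
      have := inv _ (s⁻¹ * r * s).2 0
      rw [show (s⁻¹ * r * s).1.1 = s.1.1⁻¹ * r.1.1 * s.1.1 from rfl, show r.1.1 = 1 from h0,
        show (s⁻¹ * r * s).1.2 = s.1.2⁻¹ * r.1.2 * s.1.2 from rfl] at this
      simp only [mul_one, inv_mul_cancel, map_one, Equiv.Perm.one_apply, Fin.val_zero, p0] at this
      show r.1.2 * (s.1.2 * _ * s.1.2⁻¹) = s.1.2 * _ * s.1.2⁻¹ * r.1.2
      conv_rhs => rw [← this]
      group)), s1⟩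
  let f := ((MonoidHom.snd _ _).comp R.subtype).comp e.symm.toMonoidHom
  have s3 : Function.Surjective f := s2.comp e.symm.surjective
  refine ⟨MulEquiv.ofBijective f ⟨f.ker_eq_bot_iff.1 (f.normal_ker.eq_bot_or_eq_top.resolve_right
    fun h => ?_), s3⟩⟩
  obtain ⟨x, hx⟩ := s3 (jD 4)
  have := (dec_D 4).symm.trans ((congrArg jφ (hx.symm.trans (h.ge (mem_top x)))).trans dec_one)
  exact absurd this (by decide +kernel)

end Cfsg.Agent.WF
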