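import Mathlib
import Cfsg.Agent.Lib.Lin1.Odd
import Cfsg.Agent.Lib.Coprime.SylowOrbit
import Cfsg.Agent.Lib.PGrp.ConjOrder
import Cfsg.Agent.Lib.Cls.Basic

/-!
# Solvable `p'`-groups transitive on the subspaces of each dimension
-/

set_option autoImplicit false
set_option linter.unusedSectionVars false

namespace Cfsg.Agent.WF

open Subgroup Module MulAction Lin1
open scoped Pointwise

/-- geometric sums -/
def gs (x n : ℕ) : ℕ := ∑ i ∈ Finset.range n, x ^ i

theorem gs_succ (x n : ℕ) : gs x (n + 1) = x * gs x n + 1 := geom_sum_succ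

theorem gs_mul (x n : ℕ) : gs (x + 1) n * x + 1 = (x + 1) ^ n := geom_sum_mul_add x n

theorem gs_two (x m : ℕ) : gs x (2 * m) = (x + 1) * gs (x ^ 2) m := by
  induction m with
  | zero => rfl
  | succ m ih => rw [mul_add, mul_one, gs_succ, gs_succ, ih, gs_succ]; ring

theorem gs_mod {x : ℕ} (hx : x % 2 = 1) (n : ℕ) : gs x n % 2 = n % 2 := by
  induction n with
  | zero => rfl
  | succ n ih => rw [gs_succ, Nat.add_mod, Nat.mul_mod, hx, ih]; omega

theorem le_gs {x : ℕ} (hx : 2 ≤ x) (n : ℕ) : 2 ^ n ≤ gs x n + 1 := by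
  induction n with
  | zero => simp
  | succ n ih => rw [gs_succ, pow_succ]; nlinarith

theorem not_two_pow {x m e : ℕ} (hx : x % 2 = 1) (h1 : x ≠ 1) (hm : 2 ≤ m) : gs x (2 * m) ≠ 2 ^ e := by
  intro h
  have h2 : x ^ 2 % 4 = 1 := by
    rw [Nat.pow_mod]
    have : x % 4 = 1 ∨ x % 4 = 3 := by omega
    rcases this with e | e <;> rw [e]
  have h3 : 3 ^ 2 ≤ x ^ 2 := Nat.pow_le_pow_left (by omega) 2
  have key : ∀ y, y ∣ gs x (2 * m) → y ≠ 1 → 2 ∣ y ∧ (y % 4 = 2 → y = 2) := fun y hy y1 => by
    obtain ⟨j, -, rfl⟩ := (Nat.dvd_prime_pow Nat.prime_two).1 (h ▸ hy)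
    rcases j with _ | _ | j
    · simp at y1
    · simp
    · exact ⟨dvd_pow_self 2 (by omega), fun e => by rw [pow_add, pow_add] at e; omega⟩
  have h4 := (key _ (gs_two x m ▸ dvd_mul_left _ _) fun e => by
    have := le_gs (x := x ^ 2) (by omega) m
    have := Nat.pow_le_pow_right two_pos hm
    omega).1
  have h5 := gs_mod (x := x ^ 2) (by omega) m
  obtain ⟨k, rfl⟩ : 2 ∣ m := by omega
  have := (key (x ^ 2 + 1) (by rw [gs_two, gs_two]; exact (dvd_mul_right _ _).mul_left _)
    (by omega)).2 (by omega)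
  omega

theorem arith {p n : ℕ} (hp : 2 ≤ p) (hn : 2 ≤ n) (h : gs p n ∣ (n + 1) * (p + 1)) :
    n = 2 ∨ n = 4 ∧ p = 2 := by
  have h1 := Nat.le_of_dvd (by positivity) h
  rcases Nat.lt_or_ge n 5 with h5 | h5
  · interval_cases n
    · simp
    · exfalso
      have e : gs p 3 = p * (p + 1) + 1 := by simp [gs, Finset.sum_range_succ]; ring
      have h2 : (gs p 3).Coprime (p + 1) := by rw [e]; simp
      have := Nat.le_of_dvd (by norm_num) (h2.dvd_of_dvd_mul_right h)
      nlinarith
    · have e : gs p 4 = (p + 1) * (p ^ 2 + 1) := by simp [gs, Finset.sum_range_succ]; ring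
      exact .inr ⟨rfl, by nlinarith⟩
  · exfalso
    obtain ⟨k, rfl⟩ := Nat.exists_eq_add_of_le' h5
    have h2 : ∀ k, (p + 1) * (k + 5 + 1) < gs p (k + 5) := fun k => by
      induction k with
      | zero =>
        have e : gs p 5 = p * ((p + 1) * (p ^ 2 + 1)) + 1 := by
          simp [gs, Finset.sum_range_succ]; ring
        have : 6 ≤ p * (p ^ 2 + 1) := by nlinarith
        rw [e]; nlinarith
      | succ k ih => rw [show k + 1 + 5 = k + 5 + 1 by ring, gs_succ]; nlinarith
    have := h2 k
    nlinarith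

theorem ncard_sub {K V : Type*} [Field K] [Fintype K] [AddCommGroup V] [Module K V] [Finite V]
    {j : ℕ} (hj : j ≤ finrank K V) : {U : Submodule K V | finrank K U = j}.ncard *
      ∏ i : Fin j, (Fintype.card K ^ j - Fintype.card K ^ i.1) =
      ∏ i : Fin j, (Fintype.card K ^ finrank K V - Fintype.card K ^ i.1) := by
  let f : {s : Fin j → V // LinearIndependent K s} → {U : Submodule K V // finrank K U = j} :=
    fun s => ⟨Submodule.span K (Set.range s.1), by rw [finrank_span_eq_card s.2, Fintype.card_fin]⟩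
  have := Fintype.ofFinite {U : Submodule K V // finrank K U = j}
  rw [← card_linearIndependent hj, ← Nat.card_congr (Equiv.sigmaFiberEquiv f), Nat.card_sigma,
    Finset.sum_congr rfl (g := fun _ => ∏ i : Fin j, (Fintype.card K ^ j - Fintype.card K ^ i.1)),
    Finset.sum_const, Finset.card_univ, smul_eq_mul, Fintype.card_eq_nat_card (α := Subtype _)]
  · rfl
  rintro ⟨U, hU⟩ -
  have h1 := card_linearIndependent (K := K) (V := U) hU.ge
  rw [hU] at h1
  rw [← h1]
  exact Nat.card_congr
    { toFun := fun s => ⟨fun i => ⟨s.1.1 i, (congrArg Subtype.val s.2).le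
        (Submodule.subset_span ⟨i, rfl⟩)⟩, LinearIndependent.of_comp U.subtype s.1.2⟩
      invFun := fun t => ⟨⟨fun i => t.1 i, t.2.map' U.subtype U.ker_subtype⟩, Subtype.ext
        (Submodule.eq_of_le_of_finrank_eq (Submodule.span_le.2 (by
          rintro _ ⟨i, rfl⟩; exact (t.1 i).2)) ((f _).2.trans hU.symm))⟩
      left_inv := fun _ => rfl
      right_inv := fun _ => rfl }

theorem ncard_orbit_sub {H Ω : Type*} [Group H] [MulAction H Ω] (T : Subgroup H) (a : Ω) :
    (orbit T a).ncard = (stabilizer H a).relIndex T := (index_stabilizer T a).symm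

variable {p n : ℕ} [hp : Fact p.Prime] {H V : Type*} [Group H] [Finite H] [AddCommGroup V]
  [Module (ZMod p) V] [Finite V] [DistribMulAction H V] [SMulCommClass H (ZMod p) V]

theorem finrank_smul (h : H) (U : Submodule (ZMod p) V) :
    finrank (ZMod p) ↥(h • U) = finrank (ZMod p) U :=
  LinearEquiv.finrank_map_eq (DistribMulAction.toLinearEquiv (ZMod p) V h) U

variable (hn : finrank (ZMod p) V = n + 1)
  (tr : ∀ U W : Submodule (ZMod p) V, finrank (ZMod p) U = finrank (ZMod p) W → ∃ h : H, h • U = W)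
include hn tr

omit hn in
theorem index_stab (U : Submodule (ZMod p) V) : (stabilizer H U).index =
    {W : Submodule (ZMod p) V | finrank (ZMod p) W = finrank (ZMod p) U}.ncard := by
  rw [index_stabilizer]
  congr 1
  ext W
  exact ⟨fun ⟨h, e⟩ => e ▸ finrank_smul h U, fun e => tr U W e.symm⟩

theorem index_point {U : Submodule (ZMod p) V} (hU : finrank (ZMod p) U = 1) :
    (stabilizer H U).index = gs p (n + 1) := by
  have h1 := ncard_sub (K := ZMod p) (V := V) (j := 1) (by omega)
  rw [index_stab tr, hU]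
  obtain ⟨r, rfl⟩ := Nat.exists_eq_add_of_le' hp.out.one_le
  have := hp.out.two_le
  simp only [Fin.prod_univ_one, ZMod.card, hn, Fin.val_zero, pow_zero, pow_one,
    Nat.add_sub_cancel] at h1
  rw [← gs_mul, Nat.add_sub_cancel] at h1
  exact Nat.eq_of_mul_eq_mul_right (by omega) h1

theorem index_line (h1 : 1 ≤ n) {U : Submodule (ZMod p) V} (hU : finrank (ZMod p) U = 2) :
    (stabilizer H U).index * (p + 1) = gs p (n + 1) * gs p n := by
  have h1 := ncard_sub (K := ZMod p) (V := V) (j := 2) (by omega)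
  rw [index_stab tr, hU]
  obtain ⟨r, rfl⟩ := Nat.exists_eq_add_of_le' hp.out.one_le
  have := hp.out.two_le
  simp only [Fin.prod_univ_two, ZMod.card, hn, Fin.val_zero, Fin.val_one, pow_zero, pow_one] at h1
  rw [show (r + 1) ^ 2 - 1 = (r + 2) * r from Nat.sub_eq_of_eq_add (by ring),
    show (r + 1) ^ 2 - (r + 1) = (r + 1) * r from Nat.sub_eq_of_eq_add (by ring),
    show (r + 1) ^ (n + 1) - 1 = gs (r + 1) (n + 1) * r from Nat.sub_eq_of_eq_add (gs_mul _ _).symm,
    show (r + 1) ^ (n + 1) - (r + 1) = (r + 1) * (gs (r + 1) n * r) from Nat.sub_eq_of_eq_add (by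
      rw [pow_succ, ← gs_mul]; ring)] at h1
  refine Nat.eq_of_mul_eq_mul_right (show 0 < r * ((r + 1) * r) by
    have : 0 < r := by omega
    positivity) ?_
  linarith

theorem two_le_stab (h2 : 2 ≤ n) (T : Subgroup H) [hTn : T.Normal] (hT : IsPGroup 2 T)
    {a : Submodule (ZMod p) V} (ha : finrank (ZMod p) a = 1) : T ≤ stabilizer H a := by
  rw [← relIndex_eq_one]
  by_contra hb
  obtain ⟨e, he⟩ := hT.index ((stabilizer H a).subgroupOf T)
  have hv := index_point hn tr ha
  obtain ⟨c, hc⟩ := hv ▸ Cls.relIndex_dvd_index_of_normal' (stabilizer H a) T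
  replace he : (stabilizer H a).relIndex T = 2 ^ e := he
  have h3 : 2 ∣ gs p (n + 1) := by
    rw [hc, he]
    exact (dvd_pow_self 2 fun e0 => hb (by rw [he, e0, pow_zero])).mul_right c
  have hp2 : p % 2 = 1 := hp.out.eq_two_or_odd.resolve_left fun e => by
    rw [gs_succ, e] at h3
    omega
  have h4 := gs_mod hp2 (n + 1)
  obtain ⟨m, rfl⟩ : ∃ m, n = 2 * m + 1 := ⟨n / 2, by omega⟩
  have h5 : (gs p (2 * m + 1)).Coprime (p + 1) := by
    rw [gs_succ, gs_two, ← mul_assoc, mul_right_comm]; simp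
  have h6 : (gs p (2 * m + 1)).Coprime (gs p (2 * m + 1 + 1)) := by rw [gs_succ p (2 * m + 1)]; simp
  have h7 : gs p (2 * m + 1) ∣ (stabilizer H a).relIndex T - 1 := by
    rw [← ncard_orbit_sub, ← Set.ncard_sdiff_singleton_of_mem (mem_orbit_self a)]
    refine Coprime.dvd_ncard_of_forall_orbit (P := stabilizer H a) ?_ ?_
    · rintro s hs _ ⟨⟨t, rfl⟩, h⟩
      refine ⟨⟨⟨s * t * s⁻¹, hTn.conj_mem _ t.2 s⟩, ?_⟩, fun e => h ?_⟩
      · show (s * t * s⁻¹) • a = s • (t : H) • a
        rw [mul_smul, mem_stabilizer_iff.1 (inv_mem hs), mul_smul]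
      · exact MulAction.injective s (e.trans (mem_stabilizer_iff.1 hs).symm)
    · rintro _ ⟨⟨t, rfl⟩, h⟩
      have hb := (finrank_smul (t : H) a).trans ha
      replace h : (t : H) • a ≠ a := h
      show _ ∣ (orbit _ ((t : H) • a)).ncard
      generalize (t : H) • a = b at hb h
      have h8 : finrank (ZMod p) ↥(a ⊔ b) = 2 := by
        have h9 := Submodule.finrank_sup_add_finrank_inf_eq a b
        have h10 := Submodule.finrank_lt_finrank_of_lt (inf_lt_right.2 fun e =>
          h (Submodule.eq_of_le_of_finrank_eq e (hb.trans ha.symm)) : a ⊓ b < b)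
        omega
      have h9 := h5.dvd_of_dvd_mul_right (Dvd.intro_left _ (index_line hn tr (by omega) h8).symm)
      have h10 := h9.trans (index_dvd_of_le (show stabilizer H b ⊓ stabilizer H a ≤ _ from
        fun g hg => by rw [mem_stabilizer_iff, Submodule.smul_sup', hg.1, hg.2]))
      rw [← relIndex_mul_index inf_le_right, inf_relIndex_right, hv] at h10
      rw [ncard_orbit_sub]
      exact h6.dvd_of_dvd_mul_right h10
  rw [he] at hc h7 hb
  refine not_two_pow (m := m + 1) (e := e) hp2 hp.out.ne_one (by omega) ?_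
  rw [show 2 * (m + 1) = 2 * m + 1 + 1 by ring]
  have h8 : p ≤ gs p (2 * m + 1) := by
    obtain ⟨k, hk⟩ : ∃ k, 2 * m = k + 1 := ⟨2 * m - 1, by omega⟩
    rw [gs_succ, hk, gs_succ, mul_add]; omega
  have h9 := gs_succ p (2 * m + 1)
  generalize gs p (2 * m + 1) = w at *
  generalize gs p (2 * m + 1 + 1) = v at *
  obtain ⟨b, hb'⟩ : ∃ b, 2 ^ e = b + 1 := ⟨2 ^ e - 1, by have := Nat.pow_pos (n := e) two_pos; omega⟩
  rw [hb'] at hc h7 hb ⊢
  rw [Nat.add_sub_cancel] at h7
  have h10 := Nat.le_of_dvd (by omega) h7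
  obtain ⟨c, rfl⟩ : ∃ k, c = k + 1 := ⟨c - 1, by rcases c with _ | c <;> omega⟩
  have h11 : w ∣ c := (Nat.dvd_add_right (h7.mul_right (c + 1))).1
    ⟨p, by linarith⟩
  rcases c with _ | c
  · omega
  · have := Nat.le_of_dvd (by omega) h11
    nlinarith

variable [FaithfulSMul H V]

theorem two_le_center (h2 : 2 ≤ n) (T : Subgroup H) [T.Normal] (hT : IsPGroup 2 T) :
    T ≤ center H := fun t ht => by
  obtain ⟨c, hc⟩ := (DistribMulAction.toModuleEnd (ZMod p) V t
    ).exists_eq_smul_id_of_forall_notLinearIndependent fun v => by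
    by_cases hv : v = 0
    · simp [hv, linearIndependent_fin2]
    · have h := two_le_stab hn tr h2 T hT (finrank_span_singleton hv) ht
      have h1 := Submodule.smul_mem_pointwise_smul v t _ (Submodule.mem_span_singleton_self (R := ZMod p) v)
      rw [mem_stabilizer_iff.1 h, Submodule.mem_span_singleton] at h1
      simpa [LinearIndependent.pair_iff' hv] using h1
  have h1 : ∀ v : V, t • v = c • v := fun v => DFunLike.congr_fun hc v
  exact mem_center_iff.2 fun g => eq_of_smul_eq_smul fun v : V => by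
    rw [mul_smul, mul_smul, h1, h1, smul_comm]

theorem semilinear [Group.IsSolvable H] (h2 : 2 ≤ n) (hd : ¬ p ∣ Nat.card H) :
    (n = 2 ∨ n = 4 ∧ p = 2) ∧ Nat.card H ∣ (n + 1) * (p ^ (n + 1) - 1) ∧
    ∃ a : GaloisField p (n + 1) ≃+ V, ∀ h : H, ∃ (u : (GaloisField p (n + 1))ˣ)
      (σ : GaloisField p (n + 1) ≃+* GaloisField p (n + 1)), ∀ x, h • a x = a (u * σ x) := by
  let ρ : H →* End (ZMod p) V := DistribMulAction.toModuleEnd (ZMod p) V
  have hρ : ∀ (h : H) (v : V), ρ h v = h • v := fun _ _ => rfl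
  have inj : Function.Injective ρ := fun a b e => eq_of_smul_eq_smul fun v : V =>
    DFunLike.congr_fun e v
  have hT : PT ρ := fun v w hv hw => by
    obtain ⟨h, e⟩ := tr _ _ ((finrank_span_singleton hv).trans (finrank_span_singleton hw).symm)
    have h1 := Submodule.smul_mem_pointwise_smul v h _ (Submodule.mem_span_singleton_self (R := ZMod p) v)
    rw [e, Submodule.mem_span_singleton] at h1
    exact ⟨h, h1.imp fun _ e => e.symm⟩
  have : Nontrivial V := nontrivial_of_finrank_pos (R := ZMod p) (by omega)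
  obtain ⟨B, _, hB, hC⟩ : ∃ B : Subgroup H, ∃ _ : B.Normal, IsMulCommutative B ∧
      centralizer (B : Set H) = B := by
    have hB : IsMulCommutative (fittingSubgroup H) :=
      PGrp.isMulCommutative_of_nilpotent Core.isNilpotent_fitting fun r hr Q h1 h3 => by
        have := Fact.mk hr
        have h4 := Core.le_pCore_of_le_fitting h3 h1
        by_cases e : r = 2
        · subst e
          exact Core.isMulCommutative_of_le inferInstance
            (h4.trans (two_le_center hn tr h2 _ (Core.isPGroup_pCore 2)))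
        by_cases e' : r = p
        · subst e'
          obtain ⟨k, hk⟩ := IsPGroup.iff_card.1 h3
          rw [eq_bot_of_card_eq Q (Nat.eq_one_of_dvd_coprimes
            ((hr.coprime_iff_not_dvd.2 hd).pow_left k) hk.dvd (card_subgroup_dvd_card Q))]
          infer_instance
        have := hT.isCyclic_of_isPGroup inj e (fun e => e' ((Nat.prime_dvd_prime_iff_eq hp.out hr).1
          ((ZMod.natCast_eq_zero_iff r p).1 e)).symm) (Core.isPGroup_pCore (G := H) r)
        exact Core.isMulCommutative_of_le inferInstance h4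
    exact ⟨_, inferInstance, hB, le_antisymm Core.centralizer_fitting_le (le_centralizer _)⟩
  have hV : Nat.card V = p ^ (n + 1) := by
    rw [natCard_eq_pow_finrank (K := ZMod p), Nat.card_zmod, hn]
  have hc := hT.isCyclic inj hB
  have hi := hT.index_dvd inj hB
  have ho := fun b => hT.orderOf_dvd inj hB (b := b)
  have hz := fun a => hT.eq_zero (alg_comm hB) conj_mem_alg (a := a)
  have hk := ker_galHom (B := B) inj
  let _ := (hT.isField hB).toField
  rw [hC] at hi hk
  rw [hn] at hi
  rw [hV] at ho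
  have : Finite (End (ZMod p) V) := Finite.of_injective _ DFunLike.coe_injective
  have : CharP (alg ρ B) p := charP_of_injective_algebraMap (algebraMap (ZMod p) _).injective p
  obtain ⟨v, hv⟩ := exists_ne (0 : V)
  have h3 : Nat.card (alg ρ B) = p ^ (n + 1) := by
    have e1 := finrank_mul_finrank (ZMod p) (alg ρ B) V
    have e2 := natCard_eq_pow_finrank (K := ZMod p) (V := alg ρ B)
    have e3 : B.index ≤ finrank (ZMod p) (alg ρ B) := by
      rw [← congrArg index hk, index_ker, ← IsGalois.card_aut_eq_finrank]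
      exact card_le_card_group _
    have e4 := Nat.card_le_card_of_surjective
      (fun x : (H ⧸ B) × alg ρ B => x.1.out • x.2.1 v) fun w => by
        by_cases hw : w = 0
        · exact ⟨(1, 0), by simp [hw]⟩
        obtain ⟨h, c, e, -⟩ := hT.exists_inv hv hw
        obtain ⟨b, hb⟩ := QuotientGroup.mk_out_eq_mul B h
        refine ⟨(h, c • ⟨_, mem_alg (inv_mem b.2)⟩), ?_⟩
        show (h : H ⧸ B).out • c • (b : H)⁻¹ • v = w
        rw [hb, mul_smul, smul_comm (b : H), smul_inv_smul, ← e, hρ, smul_inv_smul]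
    rw [Nat.card_prod, ← index, hV, e2, Nat.card_zmod] at e4
    rw [e2, Nat.card_zmod, ← hn, ← e1]
    rw [hn] at e1
    generalize finrank (ZMod p) (alg ρ B) = m at *
    generalize finrank (alg ρ B) V = d at *
    rcases d with _ | _ | d
    · omega
    · rw [zero_add, mul_one]
    · have e5 := Nat.lt_pow_self (n := m) hp.out.one_lt
      have e6 := Nat.pow_le_pow_right hp.out.pos (show m + m ≤ n + 1 by nlinarith)
      rw [pow_add] at e6
      nlinarith
  refine ⟨arith hp.out.two_le h2 ?_, ?_, ?_⟩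
  · obtain ⟨s, hs⟩ := exists_linearIndependent_of_le_finrank (R := ZMod p) (M := V) (n := 2) (by omega)
    have hU := (finrank_span_eq_card hs).trans (Fintype.card_fin 2)
    generalize Submodule.span (ZMod p) (Set.range s) = U at hU
    have h4 : (stabilizer H U).relIndex B ∣ gs p (n + 1) := by
      have := isCyclic_of_surjective _ (QuotientGroup.mk'_surjective ((stabilizer H U).subgroupOf B))
      rw [relIndex, index, ← IsCyclic.exponent_eq_card]
      refine Monoid.exponent_dvd_of_forall_pow_eq_one fun b => ?_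
      obtain ⟨b, rfl⟩ := QuotientGroup.mk_surjective b
      rw [← QuotientGroup.mk_pow, QuotientGroup.eq_one_iff]
      obtain ⟨k, hk⟩ := (mem_bot_iff_intCast p _).1 ((Subfield.mem_bot_iff_pow_eq_self _ p
        (x := (⟨_, mem_alg (b ^ gs p (n + 1)).2⟩ : alg ρ B))).2 (Subtype.ext (by
          show ρ (b ^ _ : B) ^ p = ρ (b ^ _ : B)
          obtain ⟨r, rfl⟩ := Nat.exists_eq_add_of_le' hp.out.one_le
          rw [← map_pow, pow_succ, SubmonoidClass.coe_pow, ← pow_mul, orderOf_dvd_iff_pow_eq_one.1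
            ((ho b b.2).trans (by rw [← gs_mul, Nat.add_sub_cancel])), one_mul])))
      refine Submodule.eq_of_le_of_finrank_eq ?_ (finrank_smul _ U)
      rintro _ ⟨y, hy, rfl⟩
      have h5 : (k : End (ZMod p) V) y = ((b ^ gs p (n + 1) : B) : H) • y :=
        DFunLike.congr_fun (congrArg Subtype.val hk) y
      show ((b ^ gs p (n + 1) : B) : H) • y ∈ U
      rw [← h5]
      exact zsmul_mem hy k
    have h5 := (index_dvd_of_le (inf_le_left : stabilizer H U ⊓ B ≤ _)).trans
      (relIndex_mul_index (inf_le_right : stabilizer H U ⊓ B ≤ _)).symm.dvd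
    rw [inf_relIndex_right] at h5
    have h6 := Nat.mul_dvd_mul_right (h5.trans (Nat.mul_dvd_mul h4 hi)) (p + 1)
    rwa [index_line hn tr (by omega) hU, mul_assoc, Nat.mul_dvd_mul_iff_left (by
      rw [gs_succ]; omega)] at h6
  · obtain ⟨b, rfl⟩ := (Subgroup.isCyclic_iff_exists_zpowers_eq_top _).1 hc
    rw [← index_mul_card (zpowers b), Nat.card_zpowers]
    exact Nat.mul_dvd_mul hi (ho b (mem_zpowers b))
  · have := Fintype.ofFinite (alg ρ B)
    have := Fintype.ofFinite (GaloisField p (n + 1))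
    let e : GaloisField p (n + 1) ≃+* alg ρ B := FiniteField.ringEquivOfCardEq (by
      rw [← Nat.card_eq_fintype_card, ← Nat.card_eq_fintype_card, h3, GaloisField.card _ _ (by omega)])
    let ev : alg ρ B →+ V := ⟨⟨fun x => x.1 v, rfl⟩, fun _ _ => rfl⟩
    have hev : Function.Bijective ev := (Nat.bijective_iff_injective_and_card _).2
      ⟨(injective_iff_map_eq_zero _).2 fun x hx => Subtype.ext (hz _ x.2 hv hx), h3.trans hV.symm⟩
    refine ⟨e.toAddEquiv.trans (AddEquiv.ofBijective ev hev), fun h => ?_⟩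
    obtain ⟨y, hy⟩ := hev.2 (h • v)
    refine ⟨Units.mk0 (e.symm y) fun e0 => hv ?_,
      e.trans ((galHom ρ B h).toRingEquiv.trans e.symm), fun x => ?_⟩
    · rw [EmbeddingLike.map_eq_zero_iff] at e0
      rwa [e0, map_zero, eq_comm, smul_eq_zero_iff_eq] at hy
    · show h • (e x).1 v = (e (e.symm y * e.symm (galHom ρ B h (e x)))).1 v
      rw [map_mul, e.apply_symm_apply, e.apply_symm_apply, mul_comm]
      show _ = (galHom ρ B h (e x) : End (ZMod p) V) (ev y)
      rw [hy, galHom_apply, End.mul_apply, End.mul_apply, hρ, hρ, inv_smul_smul]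

omit [FaithfulSMul H V] in
theorem gs_dvd (h1 : 1 ≤ n) : gs p (n + 1) ∣ Nat.card H ∧
    gs p (n + 1) * gs p n ∣ Nat.card H * (p + 1) := by
  have : Nontrivial V := nontrivial_of_finrank_pos (R := ZMod p) (by omega)
  obtain ⟨v, hv⟩ := exists_ne (0 : V)
  obtain ⟨s, hs⟩ := exists_linearIndependent_of_le_finrank (R := ZMod p) (M := V) (n := 2) (by omega)
  exact ⟨index_point hn tr (finrank_span_singleton hv) ▸ index_dvd_card _,
    index_line hn tr h1 ((finrank_span_eq_card hs).trans (Fintype.card_fin 2)) ▸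
      Nat.mul_dvd_mul_right (index_dvd_card _) _⟩

end Cfsg.Agent.WF
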